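import Cfsg.Agent.Lib.Steinberg.Multiplier
import Cfsg.Agent.Lib.Steinberg.Embed
import Cfsg.Agent.Lib.Twisted.E6Simple
import Cfsg.Agent.Lib.Twisted.E6Torus

/-!
The twisted group of type E6 has a perfect central extension with kernel of order gcd(3, q + 1): the
derived subgroup of its preimage in the presented group of type E6.
-/

set_option autoImplicit false
set_option linter.unusedSectionVars false

universe u

namespace CfsgLib.E6Schur

open Cfsg.Lie CfsgLib.Chev CfsgLib.Chevalley CfsgLib.Twisted CfsgLib.Steinberg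
open CfsgLib.Twisted.E6 (sym sym_test tb)
open scoped commutatorElement

theorem stSetup : Steinberg.Setup chevE6 tb :=
  ⟨CfsgLib.Chev.E6.checked, CfsgLib.Twisted.E6.comm_one, hasWit (by simp)⟩

/-- The fundamental roots and their negatives of the two orbits of length two, with their images. -/
def pairs : List (ℕ × ℕ) :=
  [(chevE6.simple 4, chevE6.simple 2), (chevE6.neg (chevE6.simple 4), chevE6.neg (chevE6.simple 2)),
    (chevE6.simple 5, chevE6.simple 0), (chevE6.neg (chevE6.simple 5), chevE6.neg (chevE6.simple 0))]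

/-- The fundamental roots and their negatives of the orbits of length one. -/
def singles : List ℕ :=
  [chevE6.simple 1, chevE6.neg (chevE6.simple 1), chevE6.simple 3, chevE6.neg (chevE6.simple 3)]

theorem single_facts : ∀ r ∈ singles, r < chevE6.nroots ∧ sym.olen r = 1 := by decide +kernel

theorem pair_facts' : ∀ rs ∈ pairs, rs.1 < chevE6.nroots ∧ rs.2 < chevE6.nroots ∧
    sym.img rs.1 = rs.2 ∧ sym.sgn rs.1 = 1 ∧ sym.olen rs.1 = 2 := by decide +kernel

theorem cross_facts : ∀ i ∈ [(4, 2), (5, 0)], ∀ r ∈ [chevE6.simple i.1, chevE6.neg (chevE6.simple i.1)],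
    ∀ s ∈ [chevE6.simple i.2, chevE6.neg (chevE6.simple i.2)],
      r < chevE6.nroots ∧ s < chevE6.nroots ∧ s ≠ r ∧ s ≠ chevE6.neg r ∧
        chevE6.commTerms r s = [] := by decide +kernel

/-- The nodes. -/
abbrev nd0 : Fin chevE6.rank := ⟨0, by decide +kernel⟩
@[inherit_doc nd0] abbrev nd1 : Fin chevE6.rank := ⟨1, by decide +kernel⟩
@[inherit_doc nd0] abbrev nd2 : Fin chevE6.rank := ⟨2, by decide +kernel⟩
@[inherit_doc nd0] abbrev nd3 : Fin chevE6.rank := ⟨3, by decide +kernel⟩
@[inherit_doc nd0] abbrev nd4 : Fin chevE6.rank := ⟨4, by decide +kernel⟩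
@[inherit_doc nd0] abbrev nd5 : Fin chevE6.rank := ⟨5, by decide +kernel⟩

theorem simple_in_pairs : ∀ i ∈ [(nd4, nd2), (nd5, nd0)],
    (chevE6.simple i.1.1, chevE6.simple i.2.1) ∈ pairs ∧
      (chevE6.neg (chevE6.simple i.1.1), chevE6.neg (chevE6.simple i.2.1)) ∈ pairs ∧
      (i.1.1, i.2.1) ∈ [(4, 2), (5, 0)] ∧ preNode sym_test i.2 = i.1 := by decide +kernel

theorem simple_in_singles : ∀ i ∈ [nd1, nd3],
    chevE6.simple i.1 ∈ singles ∧ chevE6.neg (chevE6.simple i.1) ∈ singles ∧
      preNode sym_test i = i := by decide +kernel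

theorem mul_mul_mul_of_commute {G : Type*} [Group G] {a b c a' b' c' : G} (h1 : Commute a' b)
    (h2 : Commute a' c) (h3 : Commute b' c) :
    (a * a') * (b * b') * (c * c') = (a * b * c) * (a' * b' * c') := by
  calc (a * a') * (b * b') * (c * c') = a * (a' * b) * (b' * c) * c' := by group
    _ = a * (b * a') * (c * b') * c' := by rw [h1.eq, h3.eq]
    _ = a * b * (a' * c) * b' * c' := by group
    _ = a * b * (c * a') * b' * c' := by rw [h2.eq]
    _ = _ := by group

variable {K : Type u} [Field K] [Fintype K] {q : ℕ}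

/-- The preimage of the twisted group in the presented group. -/
noncomputable abbrev pre (φ : K ≃+* K) : Subgroup (chevE6.SteinbergCover K) :=
  (twistGrp sym_test φ).comap (coverHom K stSetup)

/-- The projection of the preimage. -/
noncomputable def preProj (φ : K ≃+* K) : ↥(pre φ) →* ↥(twistGrp sym_test φ) :=
  ((coverHom K stSetup).comp (pre φ).subtype).codRestrict _ fun g => g.2

/-- The derived subgroup of the preimage. -/
noncomputable abbrev preDer (φ : K ≃+* K) : Subgroup (chevE6.SteinbergCover K) :=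
  (commutator ↥(pre φ)).map (pre φ).subtype

variable (hq : IsPrimePow q) (hK : Fintype.card K = q ^ 2) (φ : K ≃+* K) (hφ : ∀ x, φ x = x ^ q)
include hq hK hφ

omit hq hK hφ in
theorem finite_cover : Finite (chevE6.SteinbergCover K) :=
  (coverSys K stSetup).finite_of_gen (cover_top K)

omit hq hK hφ in
theorem preProj_ker_le : (preProj φ).ker ≤ Subgroup.center ↥(pre φ) := by
  intro g hg
  rw [Subgroup.mem_center_iff]
  intro h
  have h1 : coverHom K stSetup (g : chevE6.SteinbergCover K) = 1 := congrArg Subtype.val hg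
  exact Subtype.ext (Subgroup.mem_center_iff.1 ((coverSys K stSetup).ker_le (cover_top K) h1).2 h)

omit hq hK hφ in
theorem preProj_surjective (hle : twistGrp sym_test φ ≤ chevE6.group K) :
    Function.Surjective (preProj φ) := by
  intro g
  have h : (g : GL chevE6.Idx K) ∈ (coverHom K stSetup).range := by
    rw [(coverSys K stSetup).range_eq (cover_top K)]
    exact hle g.2
  obtain ⟨e, he⟩ := h
  exact ⟨⟨e, show coverHom K stSetup e ∈ _ from he ▸ g.2⟩, Subtype.ext he⟩

omit hq hK hφ in
theorem twist_le_group : twistGrp sym_test φ ≤ chevE6.group K := by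
  have hc := CfsgLib.Chev.E6.checked
  refine (Subgroup.closure_le _).2 ?_
  rintro _ ⟨i, hi, r, hr, t, -, rfl⟩
  have hrn : r < chevE6.nroots := by
    rcases hr with rfl | rfl
    exacts [simple_lt hc hi, neg_lt hc (simple_lt hc hi)]
  rw [orbX_eq_prod hc sym_test φ hrn]
  refine Subgroup.list_prod_mem _ fun g hg => ?_
  obtain ⟨k, -, rfl⟩ := List.mem_map.1 hg
  rw [group_eq hc]
  exact elX_mem_uGen (TwistSym.imgIter_lt sym_test hrn k) trivial _

theorem preDer_perfect :
    (commutator ↥(pre φ)).map (preProj φ) = ⊤ ∧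
      ⁅commutator ↥(pre φ), commutator ↥(pre φ)⁆ = commutator ↥(pre φ) := by
  have hG : commutator ↥(twistGrp sym_test φ) = ⊤ := by
    have := Twisted.E6.perfect (K := K) hq hK
    rwa [Twisted.E6.twistedE6_eq hK φ hφ] at this
  have hmap : (commutator ↥(pre φ)).map (preProj φ) = ⊤ := by
    rw [commutator_def, Subgroup.map_commutator,
      Subgroup.map_top_of_surjective _ (preProj_surjective φ (twist_le_group φ)),
      ← commutator_def, hG]
  refine ⟨hmap, le_antisymm ?_ ?_⟩
  · rw [commutator_def]; exact Subgroup.commutator_mono le_top le_top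
  · refine CfsgLib.SLCover.commutator_le_of_map_eq_top (preProj φ) (preProj_ker_le φ) _ ?_
    rw [Subgroup.map_commutator, hmap, ← commutator_def, hG]

/-- An element of the preimage whose order divides a number prime to 3 lies in the derived subgroup. -/
theorem mem_preDer_of_pow {x : chevE6.SteinbergCover K} (hx : x ∈ pre φ) {n : ℕ}
    (hn : n.Coprime (Nat.card ↥(coverHom K stSetup).ker)) (hpow : x ^ n = 1) : x ∈ preDer φ := by
  haveI := finite_cover (K := K)
  obtain ⟨hmap, -⟩ := preDer_perfect hq hK φ hφ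
  obtain ⟨d, hd, e⟩ : preProj φ ⟨x, hx⟩ ∈ (commutator ↥(pre φ)).map (preProj φ) :=
    hmap ▸ Subgroup.mem_top _
  set z : ↥(pre φ) := d⁻¹ * ⟨x, hx⟩
  have hz : (z : chevE6.SteinbergCover K) ∈ (coverHom K stSetup).ker := by
    have h : preProj φ z = 1 := by rw [map_mul, map_inv, e, inv_mul_cancel]
    exact congrArg Subtype.val h
  have hzc : (z : chevE6.SteinbergCover K) ^ Nat.card ↥(coverHom K stSetup).ker = 1 :=
    congrArg Subtype.val (pow_card_eq_one' (x := (⟨z.1, hz⟩ : ↥(coverHom K stSetup).ker)))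
  have h1 : Abelianization.of (⟨x, hx⟩ : ↥(pre φ)) = 1 := by
    have hd1 : Abelianization.of d = 1 := by rw [← MonoidHom.mem_ker, Abelianization.ker_of]; exact hd
    have ez : Abelianization.of (⟨x, hx⟩ : ↥(pre φ)) = Abelianization.of z := by
      rw [map_mul, map_inv, hd1, inv_one, one_mul]
    refine orderOf_eq_one_iff.1 (Nat.eq_one_of_dvd_coprimes hn (orderOf_dvd_of_pow_eq_one ?_)
      (orderOf_dvd_of_pow_eq_one ?_))
    · rw [← map_pow, show (⟨x, hx⟩ : ↥(pre φ)) ^ n = 1 from Subtype.ext hpow, map_one]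
    · rw [ez, ← map_pow,
        show z ^ Nat.card ↥(coverHom K stSetup).ker = 1 from Subtype.ext hzc, map_one]
  rw [← MonoidHom.mem_ker, Abelianization.ker_of] at h1
  exact ⟨_, h1, rfl⟩

omit hq hK hφ in
theorem scGen_pow {r : ℕ} (hr : r < chevE6.nroots) (t : K) (n : ℕ) :
    chevE6.scGen K r t ^ n = chevE6.scGen K r (n * t) := by
  have S0 := coverSys K stSetup
  induction n with
  | zero => rw [pow_zero, Nat.cast_zero, zero_mul, S0.y_zero hr]
  | succ n ih => rw [pow_succ, ih, ← S0.add r _ _ hr, Nat.cast_succ, add_mul, one_mul]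

omit hq hK hφ in
theorem scGen_commute {r s : ℕ}
    (h : r < chevE6.nroots ∧ s < chevE6.nroots ∧ s ≠ r ∧ s ≠ chevE6.neg r ∧
      chevE6.commTerms r s = []) (t v : K) :
    Commute (chevE6.scGen K r t) (chevE6.scGen K s v) := by
  have := (coverSys K stSetup).rel r s t v h.1 h.2.1 h.2.2.1 h.2.2.2.1
  rw [ChevalleyDatum.commWord, h.2.2.2.2] at this
  simp only [List.map_nil, wordE, List.prod_nil, mul_one] at this
  exact this.symm

theorem card_cover_ker :
    Nat.card ↥(coverHom K stSetup).ker = Nat.gcd 3 (q ^ 2 - 1) := by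
  obtain ⟨θ, -, -, hθ⟩ := (coverSys K stSetup).exists_toGroup (cover_top K)
  obtain ⟨T', S'⟩ := CfsgLib.Steinberg.exists_setup (D := chevE7) (by simp)
  obtain ⟨e⟩ := CfsgLib.Steinberg.nonempty_ker_equiv (j := ⟨6, by decide +kernel⟩) stSetup S' shortE6
    shortE7 embOkE6 centerOkE6 Nat.prime_three embSumE6 θ hθ
  have he : (coverHom K stSetup).ker = θ.ker := by
    ext g
    rw [MonoidHom.mem_ker, MonoidHom.mem_ker, ← hθ g, OneMemClass.coe_eq_one]
  rw [he, Nat.card_congr e.toEquiv, Nat.card_congr Multiplicative.toAdd, Nat.card_zmod, hK]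
  rfl

theorem root_lift_mem {p : ℕ} [Fact p.Prime] [CharP K p] (hp3 : p ≠ 3) :
    (∀ r ∈ singles, ∀ t : K, φ t = t → chevE6.scGen K r t ∈ preDer φ) ∧
      ∀ rs ∈ pairs, ∀ t : K, chevE6.scGen K rs.1 t * chevE6.scGen K rs.2 (φ t) ∈ preDer φ := by
  have hc := CfsgLib.Chev.E6.checked
  have hp : p.Prime := Fact.out
  have hn : p.Coprime (Nat.card ↥(coverHom K stSetup).ker) :=
    (((Nat.coprime_primes hp Nat.prime_three).2 hp3).of_dvd_right
      (card_cover_ker hq hK φ hφ ▸ Nat.gcd_dvd_left _ _))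
  constructor
  · intro r hr t ht
    obtain ⟨hr', ho⟩ := single_facts r hr
    refine mem_preDer_of_pow hq hK φ hφ ?_ hn ?_
    · show coverHom K stSetup _ ∈ twistGrp sym_test φ
      rw [coverHom_scGen K stSetup hr']
      have := orbX_mem hc sym_test φ Twisted.E6.sym_nodeTest hr' (t := t)
        (by rw [IsPar, ho, Function.iterate_one, ht])
      rwa [orbX, ho, orbProd_one] at this
    · rw [scGen_pow hr', CharP.cast_eq_zero, zero_mul, (coverSys K stSetup).y_zero hr']
  · intro rs hrs t
    obtain ⟨hr, hs, himg, hsgn, ho⟩ := pair_facts' rs hrs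
    have hcm : ∀ v w : K, Commute (chevE6.scGen K rs.1 v) (chevE6.scGen K rs.2 w) := by
      refine scGen_commute ?_
      simp only [pairs, List.mem_cons, List.not_mem_nil, or_false] at hrs
      rcases hrs with rfl | rfl | rfl | rfl
      · exact cross_facts (4, 2) (by simp) _ (by simp) _ (by simp)
      · exact cross_facts (4, 2) (by simp) _ (by simp) _ (by simp)
      · exact cross_facts (5, 0) (by simp) _ (by simp) _ (by simp)
      · exact cross_facts (5, 0) (by simp) _ (by simp) _ (by simp)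
    refine mem_preDer_of_pow hq hK φ hφ ?_ hn ?_
    · show coverHom K stSetup _ ∈ twistGrp sym_test φ
      rw [map_mul, coverHom_scGen K stSetup hr, coverHom_scGen K stSetup hs]
      have := orbX_mem hc sym_test φ Twisted.E6.sym_nodeTest hr (t := t)
        (by rw [IsPar, ho]; exact iterate_frob_card hφ hK t)
      rwa [orbX, ho, orbProd_succ, orbProd_one, Function.iterate_one, twistSigma_elX hc sym_test φ hr,
        himg, hsgn, Int.cast_one, one_mul] at this
    · rw [(hcm _ _).mul_pow, scGen_pow hr, scGen_pow hs, CharP.cast_eq_zero, zero_mul, zero_mul,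
        (coverSys K stSetup).y_zero hr, (coverSys K stSetup).y_zero hs, one_mul]

theorem torus_mem_preDer {p : ℕ} [Fact p.Prime] [CharP K p] (hp3 : p ≠ 3)
    {c : Fin chevE6.rank → Kˣ} (hc : c ∈ fixPar sym_test φ) :
    (coverSys K stSetup).hTorus (cover_top K) c ∈ preDer φ := by
  obtain ⟨hsingle, hpair⟩ := root_lift_mem hq hK φ hφ (p := p) hp3
  set H := (coverSys K stSetup).hTorus (cover_top K)
  have hpre : ∀ j, Units.map φ.toRingHom.toMonoidHom (c (preNode sym_test j)) = c j :=
    fun j => congrFun hc j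
  have h1 : ∀ i ∈ [nd1, nd3], H (Pi.mulSingle i (c i)) ∈ preDer φ := by
    intro i hi
    obtain ⟨ha, hb, hp⟩ := simple_in_singles i hi
    have hf : φ (c i : K) = (c i : K) := by
      have h := congrArg Units.val (hpre i)
      rwa [hp] at h
    rw [(coverSys K stSetup).hTorus_single, hE, nE, nE]
    refine mul_mem (mul_mem (mul_mem (hsingle _ ha _ hf) (hsingle _ hb _ ?_)) (hsingle _ ha _ hf))
      (mul_mem (mul_mem (hsingle _ ha _ ?_) (hsingle _ hb _ ?_)) (hsingle _ ha _ ?_)) <;>
      simp [map_inv₀, hf]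
  have h2 : ∀ i ∈ [(nd4, nd2), (nd5, nd0)],
      H (Pi.mulSingle i.1 (c i.1)) * H (Pi.mulSingle i.2 (c i.2)) ∈ preDer φ := by
    intro i hi
    obtain ⟨ha, hb, hmem, hp⟩ := simple_in_pairs i hi
    have hf : (c i.2 : K) = φ (c i.1 : K) := by
      have h := congrArg Units.val (hpre i.2)
      rw [hp] at h
      exact h.symm
    have hcm : ∀ r ∈ [chevE6.simple i.1.1, chevE6.neg (chevE6.simple i.1.1)],
        ∀ s ∈ [chevE6.simple i.2.1, chevE6.neg (chevE6.simple i.2.1)], ∀ v w : K,
          Commute (chevE6.scGen K s w) (chevE6.scGen K r v) := fun r hr s hs v w =>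
      (scGen_commute (cross_facts (i.1.1, i.2.1) hmem r hr s hs) v w).symm
    set y := chevE6.scGen K
    have hn : ∀ v : K, nE chevE6 y (chevE6.simple i.1.1) v *
        nE chevE6 y (chevE6.simple i.2.1) (φ v) ∈ preDer φ := by
      intro v
      have key := mul_mem (mul_mem (hpair _ ha v) (hpair _ hb (-v⁻¹))) (hpair _ ha v)
      simp only [map_neg, map_inv₀] at key
      rwa [mul_mul_mul_of_commute (hcm _ (by simp) _ (by simp) _ _)
        (hcm _ (by simp) _ (by simp) _ _) (hcm _ (by simp) _ (by simp) _ _)] at key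
    have hcn : ∀ v w : K, Commute (nE chevE6 y (chevE6.simple i.1.1) v)
        (nE chevE6 y (chevE6.simple i.2.1) w) := fun v w =>
      ((((hcm _ (by simp) _ (by simp) _ _).symm.mul_right
          (hcm _ (by simp) _ (by simp) _ _).symm).mul_right
          (hcm _ (by simp) _ (by simp) _ _).symm).mul_left
        (((hcm _ (by simp) _ (by simp) _ _).symm.mul_right
          (hcm _ (by simp) _ (by simp) _ _).symm).mul_right
          (hcm _ (by simp) _ (by simp) _ _).symm)).mul_left
        (((hcm _ (by simp) _ (by simp) _ _).symm.mul_right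
          (hcm _ (by simp) _ (by simp) _ _).symm).mul_right
          (hcm _ (by simp) _ (by simp) _ _).symm)
    rw [(coverSys K stSetup).hTorus_single, (coverSys K stSetup).hTorus_single, hE, hE, hf]
    have key := mul_mem (hn (c i.1 : K)) (hn (-1))
    rw [map_neg, map_one] at key
    rwa [mul_assoc, ← mul_assoc (nE chevE6 y (chevE6.simple i.1.1) (-1)),
      (hcn (-1) (φ (c i.1 : K))).eq, mul_assoc, ← mul_assoc]
  have hc' : c = Pi.mulSingle nd1 (c nd1) * Pi.mulSingle nd3 (c nd3) *
      (Pi.mulSingle nd4 (c nd4) * Pi.mulSingle nd2 (c nd2)) *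
      (Pi.mulSingle nd5 (c nd5) * Pi.mulSingle nd0 (c nd0)) := by
    funext j
    revert j
    intro j
    obtain ⟨j, hj⟩ := j
    have : j < 6 := hj
    interval_cases j <;> simp [Pi.mul_apply, Pi.mulSingle_apply, Fin.ext_iff]
  rw [hc']
  simp only [map_mul]
  exact mul_mem (mul_mem (mul_mem (h1 nd1 (by simp)) (h1 nd3 (by simp))) (h2 (nd4, nd2) (by simp)))
    (h2 (nd5, nd0) (by simp))

/-- A perfect central extension with kernel of order three, when three divides `q + 1`. -/
theorem exists_perfect_cover (h3 : 3 ∣ q + 1) :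
    ∃ (Γ : Type u) (_ : Group Γ) (_ : Finite Γ) (σ : Γ →* ↥(twistGrp sym_test φ)),
      Function.Surjective σ ∧ σ.ker ≤ Subgroup.center Γ ∧ commutator Γ = ⊤ ∧
        Nat.card σ.ker = 3 := by
  haveI := finite_cover (K := K)
  obtain ⟨p, n, hp, hn, hqp⟩ := (isPrimePow_nat_iff q).1 hq
  haveI := Fact.mk hp
  haveI : CharP K p := charP_of_card_eq_prime_pow (f := n * 2)
    (by rw [hK, ← hqp, ← pow_mul])
  have hp3 : p ≠ 3 := fun e => by
    have h : 3 ∣ q := hqp ▸ e ▸ dvd_pow_self p hn.ne'
    have := (Nat.dvd_add_right h).1 h3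
    omega
  obtain ⟨hmap, hperf⟩ := preDer_perfect hq hK φ hφ
  refine ⟨↥(commutator ↥(pre φ)), inferInstance, inferInstance,
    (preProj φ).comp (commutator ↥(pre φ)).subtype, ?_, ?_, ?_, ?_⟩
  · intro g
    obtain ⟨d, hd, e⟩ : g ∈ (commutator ↥(pre φ)).map (preProj φ) := hmap ▸ Subgroup.mem_top g
    exact ⟨⟨d, hd⟩, e⟩
  · intro d hd
    rw [Subgroup.mem_center_iff]
    exact fun e => Subtype.ext (Subgroup.mem_center_iff.1 (preProj_ker_le φ hd) e)
  · apply Subgroup.map_injective (commutator ↥(pre φ)).subtype_injective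
    rw [Subgroup.map_subtype_commutator, hperf, ← MonoidHom.range_eq_map, Subgroup.range_subtype]
  · set S0 := coverSys K stSetup
    set H := S0.hTorus (cover_top K)
    set σ := (preProj φ).comp (commutator ↥(pre φ)).subtype
    have hcard3 : Nat.card ↥(coverHom K stSetup).ker = 3 := by
      rw [card_cover_ker hq hK φ hφ, Nat.gcd_eq_left]
      obtain ⟨k, hk⟩ := h3
      exact ⟨k * (q - 1), by rw [← mul_assoc, ← hk, show (1 : ℕ) = 1 ^ 2 from rfl, Nat.sq_sub_sq,
        one_pow]⟩
    let P := {c : Fin chevE6.rank → Kˣ // hPar chevE6 K c = 1}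
    have hP : Nat.card P ≤ 3 := by
      let f : P → {z : Kˣ // z ^ 3 = 1} := fun c => ⟨c.1 ⟨0, by decide⟩, congrFun (Twisted.E6.ker_cube c.2) _⟩
      have hf : Function.Injective f := fun a b e => Subtype.ext (funext fun k => by
        have e' : a.1 (⟨0, by decide⟩ : Fin chevE6.rank) = b.1 (⟨0, by decide⟩ : Fin chevE6.rank) :=
          congrArg Subtype.val e
        rw [ker_eq_zpow (⟨0, by decide⟩ : Fin chevE6.rank) (fun k => ((Twisted.E6.kExp k : ℕ) : ℤ))
            Twisted.E6.kCert Twisted.E6.kCert_ok a.2 k,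
          ker_eq_zpow (⟨0, by decide⟩ : Fin chevE6.rank) (fun k => ((Twisted.E6.kExp k : ℕ) : ℤ))
            Twisted.E6.kCert Twisted.E6.kCert_ok b.2 k, e'])
      refine (Nat.card_le_card_of_injective f hf).trans ?_
      have h := IsCyclic.card_powMonoidHom_ker (G := Kˣ) 3
      calc Nat.card {z : Kˣ // z ^ 3 = 1} = Nat.card ↥(powMonoidHom 3 : Kˣ →* Kˣ).ker := rfl
        _ ≤ 3 := h ▸ Nat.gcd_le_right _ three_pos
    let π : P → ↥(coverHom K stSetup).ker := fun c =>
      ⟨H c.1, by rw [MonoidHom.mem_ker, S0.proj_hTorus, c.2, map_one]⟩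
    have hπ : Function.Surjective π := by
      rintro ⟨g, hg⟩
      obtain ⟨c, hc, e⟩ := S0.ker_torus (cover_top K) hg
      exact ⟨⟨c, hc⟩, Subtype.ext e.symm⟩
    have hπb : Function.Bijective π := (Nat.bijective_iff_surjective_and_card π).2
      ⟨hπ, le_antisymm (hP.trans hcard3.ge) (Nat.card_le_card_of_surjective π hπ)⟩
    let ι : σ.ker → ↥(coverHom K stSetup).ker := fun d =>
      ⟨((d.1 : ↥(pre φ)) : chevE6.SteinbergCover K), congrArg Subtype.val d.2⟩
    have hι : Function.Injective ι := fun a b e => by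
      have := congrArg Subtype.val e
      exact Subtype.ext (Subtype.ext (Subtype.ext this))
    let C := {c : Fin chevE6.rank → Kˣ // tauPar sym_test φ c = c ∧ hPar chevE6 K c = 1}
    have hC : Nat.card C = 3 := by
      rw [Twisted.E6.card_fixed_ker hK φ hφ, Nat.gcd_eq_left h3]
    let κ : C → σ.ker := fun c =>
      ⟨⟨⟨H c.1, Subgroup.map_subtype_le _ (torus_mem_preDer hq hK φ hφ (p := p) hp3 c.2.1)⟩,
        by
          obtain ⟨d, hd, e⟩ := torus_mem_preDer hq hK φ hφ (p := p) hp3 c.2.1
          rwa [← (Subtype.ext e : d = ⟨H c.1, _⟩)]⟩,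
        Subtype.ext (by
          show coverHom K stSetup (H c.1) = 1
          rw [S0.proj_hTorus, c.2.2, map_one])⟩
    have hκ : Function.Injective κ := fun a b e => by
      have h : H a.1 = H b.1 := congrArg (fun d : σ.ker => ((d.1 : ↥(pre φ)) : chevE6.SteinbergCover K)) e
      have := hπb.1 (a₁ := ⟨a.1, a.2.2⟩) (a₂ := ⟨b.1, b.2.2⟩) (Subtype.ext h)
      exact Subtype.ext (congrArg (fun c : P => c.1) this)
    exact le_antisymm ((Nat.card_le_card_of_injective ι hι).trans hcard3.le)
      (hC.ge.trans (Nat.card_le_card_of_injective κ hκ))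

end CfsgLib.E6Schur
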