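import Cfsg.Agent.Lib.Twisted.E6U
import Cfsg.Agent.Lib.Twisted.E6Torus

/-!
Certificates for the unipotent subgroup of the twisted group of type E6: the roots by height, for each pair
a parameter of the torus fixing the first root subgroup and moving the second, and for each root a pair
of roots whose commutator gives its root subgroup.
-/

set_option autoImplicit false

namespace CfsgLib.E6Schur

open Cfsg.Lie CfsgLib.Chev CfsgLib.Chevalley CfsgLib.Twisted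
open CfsgLib.Twisted.E6 (sym sym_test tb)

/-- The representatives of the orbits of positive roots, by height. -/
def rootOrd : List ℕ := [36, 37, 39, 46, 38, 40, 47, 41, 44, 48, 45, 49, 51, 52, 53, 60, 54, 63, 55, 65, 66, 69, 70, 71]

/-- The torus exponents used. -/
def lamPool : List (List ℤ) := [
  [-2, 0, -1, 0, 0, 0],
  [-1, -1, 0, 0, 0, -1],
  [-1, -1, 0, 0, 0, 0],
  [-1, 0, -2, 0, -2, -1],
  [-1, 0, -1, -1, 0, 1],
  [-1, 0, -1, 0, -1, -1],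
  [-1, 0, -1, 0, 0, 0],
  [-1, 0, -1, 0, 0, 1],
  [-1, 0, -1, 0, 1, 0],
  [-1, 0, 0, -1, -1, 0],
  [-1, 0, 0, -1, 0, -1],
  [-1, 0, 0, -1, 0, 0],
  [-1, 0, 0, 0, -1, 0],
  [-1, 0, 0, 0, 0, -1],
  [-1, 0, 0, 0, 0, 0],
  [-1, 0, 0, 1, 0, -1],
  [-1, 0, 1, 0, 0, 0],
  [-1, 1, 0, 0, 0, -1],
  [-1, 1, 0, 0, 0, 0],
  [0, -1, -1, -1, 0, 0],
  [0, -1, -1, 0, -1, 0],
  [0, -1, -1, 0, 0, 0],
  [0, -1, 0, -2, 0, 0],
  [0, -1, 0, -1, 0, 0],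
  [0, -1, 0, 0, 0, 0],
  [0, -1, 0, 0, 1, 0],
  [0, -1, 1, 0, 1, 0],
  [0, 0, -1, -2, -1, 0],
  [0, 0, -1, -1, -1, 0],
  [0, 0, -1, -1, 0, 0],
  [0, 0, -1, 0, -1, 0],
  [0, 0, -1, 0, 0, 0],
  [0, 0, 0, -1, 0, 0]]

/-- The index of the exponents for a pair of roots; the diagonal is for a single root. -/
def lamIdx : List (List ℕ) := [
  [31, 32, 24, 32, 32, 24, 24, 24, 24, 24, 24, 24, 24, 24, 32, 24, 32, 24, 3, 32, 3, 32, 24, 24],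
  [0, 14, 24, 15, 27, 24, 24, 24, 24, 24, 24, 24, 24, 24, 4, 24, 15, 24, 15, 0, 0, 0, 24, 24],
  [0, 0, 24, 19, 14, 14, 19, 14, 14, 14, 19, 14, 14, 25, 14, 14, 25, 14, 14, 14, 14, 25, 25, 25],
  [0, 0, 0, 32, 14, 14, 31, 14, 14, 14, 31, 14, 14, 31, 14, 14, 31, 14, 14, 14, 14, 31, 22, 22],
  [0, 0, 0, 0, 14, 24, 24, 24, 24, 24, 24, 24, 24, 24, 16, 24, 10, 24, 16, 9, 10, 16, 24, 24],
  [0, 0, 0, 0, 0, 14, 7, 30, 23, 23, 23, 23, 7, 30, 23, 23, 23, 10, 30, 23, 10, 23, 10, 23],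
  [0, 0, 0, 0, 0, 0, 24, 14, 14, 14, 21, 14, 14, 29, 14, 14, 21, 14, 14, 14, 14, 21, 21, 21],
  [0, 0, 0, 0, 0, 0, 0, 14, 23, 23, 23, 23, 1, 1, 12, 12, 23, 12, 1, 23, 1, 12, 1, 23],
  [0, 0, 0, 0, 0, 0, 0, 0, 14, 6, 6, 18, 32, 32, 32, 6, 32, 32, 18, 32, 6, 32, 32, 18],
  [0, 0, 0, 0, 0, 0, 0, 0, 0, 14, 30, 30, 32, 32, 32, 1, 32, 32, 30, 32, 1, 32, 32, 1],
  [0, 0, 0, 0, 0, 0, 0, 0, 0, 0, 24, 13, 32, 32, 32, 8, 32, 32, 13, 32, 13, 32, 32, 20],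
  [0, 0, 0, 0, 0, 0, 0, 0, 0, 0, 0, 14, 32, 32, 32, 12, 32, 32, 17, 32, 17, 32, 32, 17],
  [0, 0, 0, 0, 0, 0, 0, 0, 0, 0, 0, 0, 14, 6, 2, 6, 6, 6, 2, 2, 2, 6, 2, 2],
  [0, 0, 0, 0, 0, 0, 0, 0, 0, 0, 0, 0, 0, 24, 23, 23, 23, 8, 13, 23, 13, 23, 26, 23],
  [0, 0, 0, 0, 0, 0, 0, 0, 0, 0, 0, 0, 0, 0, 14, 24, 31, 24, 31, 31, 11, 31, 24, 24],
  [0, 0, 0, 0, 0, 0, 0, 0, 0, 0, 0, 0, 0, 0, 0, 14, 31, 32, 31, 31, 2, 31, 32, 2],
  [0, 0, 0, 0, 0, 0, 0, 0, 0, 0, 0, 0, 0, 0, 0, 0, 31, 24, 13, 8, 13, 28, 24, 24],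
  [0, 0, 0, 0, 0, 0, 0, 0, 0, 0, 0, 0, 0, 0, 0, 0, 0, 14, 31, 31, 11, 31, 11, 18],
  [0, 0, 0, 0, 0, 0, 0, 0, 0, 0, 0, 0, 0, 0, 0, 0, 0, 0, 14, 32, 5, 32, 24, 24],
  [0, 0, 0, 0, 0, 0, 0, 0, 0, 0, 0, 0, 0, 0, 0, 0, 0, 0, 0, 14, 6, 6, 24, 24],
  [0, 0, 0, 0, 0, 0, 0, 0, 0, 0, 0, 0, 0, 0, 0, 0, 0, 0, 0, 0, 14, 32, 24, 24],
  [0, 0, 0, 0, 0, 0, 0, 0, 0, 0, 0, 0, 0, 0, 0, 0, 0, 0, 0, 0, 0, 31, 24, 24],
  [0, 0, 0, 0, 0, 0, 0, 0, 0, 0, 0, 0, 0, 0, 0, 0, 0, 0, 0, 0, 0, 0, 24, 23],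
  [0, 0, 0, 0, 0, 0, 0, 0, 0, 0, 0, 0, 0, 0, 0, 0, 0, 0, 0, 0, 0, 0, 0, 24]]

/-- The exponents for a pair. -/
def lamOf (i j : Fin 24) (k : Fin chevE6.rank) : ℤ :=
  (lamPool.getD ((lamIdx.getD i.1 []).getD j.1 0) []).getD k.1 0

/-- The root at a position. -/
def rootAt (i : Fin 24) : ℕ := rootOrd.getD i.1 0

/-- Two roots whose commutator gives the root at a position. -/
def decPair (i : Fin 24) : ℕ × ℕ :=
  [(4, 68), (10, 62), (2, 70), (1, 71), (7, 66), (10, 64), (2, 71), (9, 66), (6, 70), (13, 64), (10, 68), (12, 66), (6, 71), (13, 68), (8, 71), (18, 70), (14, 68), (18, 71), (15, 66), (20, 71), (38, 64), (24, 71), (25, 71), (46, 70)].getD i.1 (0, 0)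

/-- The exponent of `u` at a root for a parameter. -/
def expA (l : Fin chevE6.rank → ℤ) (r : ℕ) : ℤ := ∑ i : Fin chevE6.rank, l i * chevE6.cartan i r

/-- The exponent of the conjugate of `u` at a root for a parameter. -/
def expB (l : Fin chevE6.rank → ℤ) (r : ℕ) : ℤ :=
  ∑ i : Fin chevE6.rank, l (preNode sym_test i) * chevE6.cartan i r

/-- Exponents of a non-trivial value. -/
def movers : List (ℤ × ℤ) := [(1, 0), (0, 1), (1, 1), (-1, 0), (0, -1), (-1, -1)]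

theorem lam_self : ∀ i : Fin 24,
    (expA (lamOf i i) (rootAt i), expB (lamOf i i) (rootAt i)) ∈ movers := by decide +kernel

theorem lam_pair : ∀ i j : Fin 24, i < j →
    expA (lamOf i j) (rootAt i) = 0 ∧ expB (lamOf i j) (rootAt i) = 0 ∧
      (expA (lamOf i j) (rootAt j), expB (lamOf i j) (rootAt j)) ∈ movers := by decide +kernel

theorem root_mem : ∀ i : Fin 24, rootAt i ∈ sym.repList := by decide +kernel

theorem root_cover : ∀ r ∈ sym.repList, ∃ i : Fin 24, rootAt i = r := by decide +kernel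

theorem root_inj : ∀ i j : Fin 24, rootAt i = rootAt j → i = j := by decide +kernel

theorem root_hgt : ∀ i j : Fin 24, i ≤ j → hgtC chevE6 tb (rootAt i) ≤ hgtC chevE6 tb (rootAt j) := by
  decide +kernel

theorem root_weight : (∑ i : Fin 24, sym.olen (rootAt i)) = 36 := by decide +kernel

/-- Two roots which are not opposite and whose sum is not a root. -/
def Com (r s : ℕ) : Prop := r < chevE6.nroots ∧ s < chevE6.nroots ∧ s ≠ chevE6.neg r ∧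
  chevE6.chainEntry r s = []

instance instDecidableCom (r s : ℕ) : Decidable (Com r s) := inferInstanceAs (Decidable (_ ∧ _))

/-- The conditions on the pair of roots of a position. -/
def DecTest (r a b : ℕ) : Prop :=
  a < chevE6.nroots ∧ b < chevE6.nroots ∧ b ≠ a ∧ b ≠ chevE6.neg a ∧
    sym.olen a = sym.olen r ∧ sym.olen b = sym.olen r ∧
    (∃ C ∈ [(1 : ℤ), -1], chevE6.commTerms a b = [(r, C, 1, 1)]) ∧
    (∀ x ∈ [r, sym.img r], ∀ y ∈ [a, sym.img a, b, sym.img b], Com x y) ∧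
    (sym.olen r = 1 ∨ Com (sym.img a) b ∧ Com a (sym.img b))

instance instDecidableDecTest (r a b : ℕ) : Decidable (DecTest r a b) :=
  inferInstanceAs (Decidable (_ ∧ _))

theorem dec_ok : ∀ i : Fin 24, DecTest (rootAt i) (decPair i).1 (decPair i).2 := by decide +kernel

end CfsgLib.E6Schur
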