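import Cfsg.Agent.Lib.TwistCover.Lift
import Cfsg.Agent.Lib.SLCover.Universal
import Mathlib.GroupTheory.NoncommPiCoprod

/-!
A perfect central extension with kernel of order prime to `p` of a group generated by root subgroups
with a (B,N) structure: the kernel is bounded by the relations between the tori of the rank one
subgroups.  Variant of `Lib.TwistCover.Generic` (helper16) without independence of these tori.
-/

set_option autoImplicit false

namespace CfsgLib.E6Schur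

open Subgroup CfsgLib.TwistCover

/-- Root subgroups in a group, with the permutations of the roots given by the rank one elements. -/
structure Data (p : ℕ) (G : Type*) [Group G] (I R : Type*) where
  /-- the fundamental roots -/
  a : I → R
  /-- the negative of a root -/
  neg : R → R
  /-- positivity -/
  pos : R → Prop
  /-- the reflections -/
  w : I → Equiv.Perm R
  /-- the root subgroups -/
  X : R → Subgroup G
  /-- the unipotent subgroup -/
  U : Subgroup G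
  /-- the torus -/
  H : Subgroup G
  /-- the lifts of the reflections -/
  n : I → G
  neg_neg : ∀ r, neg (neg r) = r
  pos_neg : ∀ r, pos (neg r) ↔ ¬ pos r
  pos_a : ∀ i, pos (a i)
  w_neg : ∀ i r, w i (neg r) = neg (w i r)
  w_a : ∀ i, w i (a i) = neg (a i)
  w_sq : ∀ i r, w i (w i r) = r
  w_flip : ∀ i r, pos r → ¬ pos (w i r) → X r = X (a i) ∧ X (neg r) = X (neg (a i))
  conj_X : ∀ i r, ∀ x ∈ X r, n i * x * (n i)⁻¹ ∈ X (w i r)
  isP : IsPGroup p U
  X_le : ∀ r, pos r → X r ≤ U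
  X_neg : ∀ (v : List I) k, ¬ pos ((v.map w).prod (a k)) → ¬ X ((v.map w).prod (a k)) ≤ U
  H_comm : ∀ x ∈ H, ∀ y ∈ H, x * y = y * x
  H_conj : ∀ h ∈ H, ∀ r, ∀ x ∈ X r, h * x * h⁻¹ ∈ X r
  H_U : ∀ h ∈ H, ∀ u ∈ U, h * u * h⁻¹ ∈ U
  n_H : ∀ i, ∀ h ∈ H, n i * h * (n i)⁻¹ ∈ H
  UH : U ⊓ H = ⊥
  n_mem : ∀ i, n i ∈ X (a i) ⊔ X (neg (a i))
  n_sq : ∀ i, n i * n i ∈ H
  split : ∀ i, ∀ u ∈ U, ∃ x ∈ X (a i), n i * (u * x⁻¹) * (n i)⁻¹ ∈ U
  rank_one : ∀ i, ∀ x ∈ X (a i), (∃ y ∈ X (a i), ∃ h ∈ H, n i * x * n i = y * h) ∨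
    ∃ y ∈ X (a i), ∃ h ∈ H, ∃ y' ∈ X (a i), n i * x * n i = y * h * n i * y'
  conj_n : ∀ (v : List I) k i, pos ((v.map w).prod (a k)) → ¬ pos (w i ((v.map w).prod (a k))) →
    (v.map n).prod * n k * ((v.map n).prod)⁻¹ * (n i)⁻¹ ∈ H
  NB : ∀ v : List I, (v.map n).prod ∈ U ⊔ H → (v.map n).prod ∈ H
  gen : U ⊔ Subgroup.closure (Set.range n) = ⊤

namespace Data

variable {p : ℕ} {G : Type*} [Group G] {I R : Type*} (D : Data p G I R)

theorem w_neg_a (i : I) : D.w i (D.neg (D.a i)) = D.a i := by rw [D.w_neg, D.w_a, D.neg_neg]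

theorem conj_word (v : List I) (r : R) {x : G} (hx : x ∈ D.X r) :
    (v.map D.n).prod * x * ((v.map D.n).prod)⁻¹ ∈ D.X ((v.map D.w).prod r) := by
  induction v with
  | nil => simpa using hx
  | cons i v ih =>
    simp only [List.map_cons, List.prod_cons, Equiv.Perm.mul_apply]
    rw [show D.n i * (v.map D.n).prod * x * (D.n i * (v.map D.n).prod)⁻¹ =
      D.n i * ((v.map D.n).prod * x * ((v.map D.n).prod)⁻¹) * (D.n i)⁻¹ by group]
    exact D.conj_X i _ _ ih

theorem conj_word_inv (v : List I) (r : R) {y : G} (hy : y ∈ D.X ((v.map D.w).prod r)) :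
    ((v.map D.n).prod)⁻¹ * y * (v.map D.n).prod ∈ D.X r := by
  induction v generalizing y with
  | nil => simpa using hy
  | cons i v ih =>
    simp only [List.map_cons, List.prod_cons, Equiv.Perm.mul_apply] at hy ⊢
    have h1 := D.conj_X i _ _ hy
    rw [D.w_sq] at h1
    have h2 := D.H_conj _ (inv_mem (D.n_sq i)) _ _ h1
    rw [show (D.n i * (v.map D.n).prod)⁻¹ * y * (D.n i * (v.map D.n).prod) =
      ((v.map D.n).prod)⁻¹ * ((D.n i * D.n i)⁻¹ * (D.n i * y * (D.n i)⁻¹) * ((D.n i * D.n i)⁻¹)⁻¹) *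
        (v.map D.n).prod by group]
    exact ih h2

theorem wprod_neg (v : List I) (r : R) :
    (v.map D.w).prod (D.neg r) = D.neg ((v.map D.w).prod r) := by
  induction v with
  | nil => rfl
  | cons i v ih => simp only [List.map_cons, List.prod_cons, Equiv.Perm.mul_apply, ih, D.w_neg]

theorem isP_neg (i : I) : IsPGroup p (D.X (D.neg (D.a i))) := by
  intro x
  have h := D.conj_X i _ _ x.2
  rw [w_neg_a] at h
  obtain ⟨k, hk⟩ := D.isP ⟨_, D.X_le _ (D.pos_a i) h⟩
  refine ⟨k, Subtype.ext ?_⟩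
  have h' : (D.n i * (x : G) * (D.n i)⁻¹) ^ p ^ k = 1 := congrArg Subtype.val hk
  rw [conj_pow] at h'
  simpa using conj_eq_one_iff.1 h'

/-- The place where a word first turns a positive root negative. -/
theorem exists_flip (v : List I) {r : R} (hr : D.pos r) (hv : ¬ D.pos ((v.map D.w).prod r)) :
    ∃ x y i, v = x ++ i :: y ∧ D.pos ((y.map D.w).prod r) ∧
      ¬ D.pos (D.w i ((y.map D.w).prod r)) := by
  induction v with
  | nil => exact absurd hr hv
  | cons i v ih =>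
    by_cases h : D.pos ((v.map D.w).prod r)
    · exact ⟨[], v, i, rfl, h, by simpa using hv⟩
    · obtain ⟨x, y, j, rfl, h1, h2⟩ := ih h
      exact ⟨i :: x, y, j, rfl, h1, h2⟩

variable {Γ : Type*} [Group Γ] [Finite Γ] [Fact p.Prime] (σ : Γ →* G)

/-- The lifted rank one subgroups. -/
def Kt (i : I) : Subgroup Γ := lifts p σ (D.X (D.a i)) ⊔ lifts p σ (D.X (D.neg (D.a i)))

theorem map_Kt_le (i : I) : (D.Kt σ i).map σ ≤ D.X (D.a i) ⊔ D.X (D.neg (D.a i)) := by
  rw [Subgroup.map_le_iff_le_comap]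
  exact sup_le ((lifts_le_comap _).trans (Subgroup.comap_mono le_sup_left))
    ((lifts_le_comap _).trans (Subgroup.comap_mono le_sup_right))

theorem conj_Kt {i : I} {g : Γ} (hg : σ g ∈ D.H) {e : Γ} (he : e ∈ D.Kt σ i) :
    g * e * g⁻¹ ∈ D.Kt σ i := by
  have hle : D.Kt σ i ≤ (D.Kt σ i).comap (MulAut.conj g).toMonoidHom :=
    sup_le (fun x hx => mem_sup_left (conj_mem_lifts (fun y hy => D.H_conj _ hg _ y hy) hx))
      (fun x hx => mem_sup_right (conj_mem_lifts (fun y hy => D.H_conj _ hg _ y hy) hx))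
  exact hle he

/-- The lifted part of the torus in a rank one subgroup. -/
def Tt (i : I) : Subgroup Γ := D.Kt σ i ⊓ D.H.comap σ

/-- The lifted torus. -/
def T : Subgroup Γ := ⨆ i, D.Tt σ i

theorem T_le_comap : D.T σ ≤ D.H.comap σ := iSup_le fun _ => inf_le_right

variable (hs : Function.Surjective σ) (hc : σ.ker ≤ center Γ) (hco : ¬ p ∣ Nat.card σ.ker)
  (hK : ∀ i, D.Kt σ i ⊓ σ.ker = ⊥)

include hK in
theorem Kt_inj {i : I} {e f : Γ} (he : e ∈ D.Kt σ i) (hf : f ∈ D.Kt σ i) (h : σ e = σ f) :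
    e = f := by
  have : e * f⁻¹ ∈ D.Kt σ i ⊓ σ.ker :=
    Subgroup.mem_inf.2 ⟨mul_mem he (inv_mem hf), by rw [MonoidHom.mem_ker, map_mul, map_inv, h,
      mul_inv_cancel]⟩
  rw [hK, mem_bot] at this
  exact mul_inv_eq_one.1 this

include hK in
theorem commute_Tt {i : I} {g t : Γ} (hg : σ g ∈ D.H) (ht : t ∈ D.Tt σ i) : Commute g t := by
  have h1 := D.conj_Kt σ hg ht.1
  have : g * t * g⁻¹ = t := D.Kt_inj σ hK h1 ht.1 (by
    rw [map_mul, map_mul, map_inv, D.H_comm _ hg _ ht.2, mul_inv_cancel_right])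
  exact mul_inv_eq_iff_eq_mul.1 this

variable {m : I → Γ} (hm : ∀ i, m i ∈ D.Kt σ i ∧ σ (m i) = D.n i)

include hm in
omit [Finite Γ] [Fact p.Prime] in
theorem map_word (v : List I) : σ (v.map m).prod = (v.map D.n).prod := by
  rw [map_list_prod, List.map_map]
  exact congrArg List.prod (List.map_congr_left fun i _ => (hm i).2)

include hm in
theorem sq_mem (i : I) : m i * m i ∈ D.Tt σ i :=
  ⟨mul_mem (hm i).1 (hm i).1, by
    show σ (m i * m i) ∈ D.H
    rw [map_mul, (hm i).2]; exact D.n_sq i⟩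

include hm in
theorem conj_T (i : I) {t : Γ} (ht : t ∈ D.T σ) : m i * t * (m i)⁻¹ ∈ D.T σ := by
  have hle : D.T σ ≤ (D.T σ).comap (MulAut.conj (m i)).toMonoidHom := by
    refine iSup_le fun j u hu => ?_
    show m i * u * (m i)⁻¹ ∈ D.T σ
    have h1 : m i * u * (m i)⁻¹ * u⁻¹ ∈ D.Tt σ i := by
      refine ⟨?_, ?_⟩
      · rw [show m i * u * (m i)⁻¹ * u⁻¹ = m i * (u * (m i)⁻¹ * u⁻¹) by group]
        exact mul_mem (hm i).1 (D.conj_Kt σ hu.2 (inv_mem (hm i).1))
      · show σ (m i * u * (m i)⁻¹ * u⁻¹) ∈ D.H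
        rw [map_mul, map_mul, map_mul, map_inv, map_inv, (hm i).2]
        exact mul_mem (D.n_H i _ hu.2) (inv_mem hu.2)
    rw [show m i * u * (m i)⁻¹ = (m i * u * (m i)⁻¹ * u⁻¹) * u by group]
    exact mul_mem (mem_iSup_of_mem i h1) (mem_iSup_of_mem j hu)
  exact hle ht

include hm in
theorem conj_inv_T (i : I) {t : Γ} (ht : t ∈ D.T σ) : (m i)⁻¹ * t * m i ∈ D.T σ := by
  have hτ : m i * m i ∈ D.T σ := mem_iSup_of_mem i (D.sq_mem σ hm i)
  rw [show (m i)⁻¹ * t * m i = (m i * m i)⁻¹ * (m i * t * (m i)⁻¹) * (m i * m i) by group]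
  exact mul_mem (mul_mem (inv_mem hτ) (D.conj_T σ hm i ht)) hτ

include hm in
theorem exists_move (v : List I) {t : Γ} (ht : t ∈ D.T σ) :
    ∃ t' ∈ D.T σ, t * (v.map m).prod = (v.map m).prod * t' := by
  induction v generalizing t with
  | nil => exact ⟨t, ht, by simp⟩
  | cons i v ih =>
    obtain ⟨t', ht', h⟩ := ih (D.conj_inv_T σ hm i ht)
    refine ⟨t', ht', ?_⟩
    simp only [List.map_cons, List.prod_cons]
    rw [mul_assoc (m i), ← h]
    group

include hm in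
theorem exists_move' (v : List I) {t : Γ} (ht : t ∈ D.T σ) :
    ∃ t' ∈ D.T σ, (v.map m).prod * t = t' * (v.map m).prod := by
  induction v with
  | nil => exact ⟨t, ht, by simp⟩
  | cons i v ih =>
    obtain ⟨t', ht', h⟩ := ih
    refine ⟨m i * t' * (m i)⁻¹, D.conj_T σ hm i ht', ?_⟩
    simp only [List.map_cons, List.prod_cons]
    rw [mul_assoc (m i), h]
    group

include hm in
/-- A word whose image lies in the torus lies in the lifted torus. -/
theorem word_mem_T : ∀ v : List I, (v.map D.n).prod ∈ D.H → (v.map m).prod ∈ D.T σ := by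
  intro v
  induction hl : v.length using Nat.strong_induction_on generalizing v with
  | _ l ih =>
    intro hv
    rcases List.eq_nil_or_concat' v with rfl | ⟨v', k, rfl⟩
    · simp
    have hp : D.pos (((v' ++ [k]).map D.w).prod (D.a k)) := by
      by_contra hneg
      apply D.X_neg _ _ hneg
      intro y hy
      have h1 := D.H_U _ hv _ (D.X_le _ (D.pos_a k) (D.conj_word_inv (v' ++ [k]) (D.a k) hy))
      simpa [mul_assoc] using h1
    have hneg : ¬ D.pos ((v'.map D.w).prod (D.a k)) := by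
      simp only [List.map_append, List.map_cons, List.map_nil, List.prod_append, List.prod_cons,
        List.prod_nil, mul_one, Equiv.Perm.mul_apply, D.w_a, wprod_neg] at hp
      exact (D.pos_neg _).1 hp
    obtain ⟨x, y, i, rfl, hy1, hy2⟩ := D.exists_flip v' (D.pos_a k) hneg
    set M := (y.map m).prod
    obtain ⟨hX, hX'⟩ := D.w_flip i _ hy1 hy2
    have hMK : ∀ e ∈ D.Kt σ k, M * e * M⁻¹ ∈ D.Kt σ i := by
      intro e he
      have hle : D.Kt σ k ≤ (D.Kt σ i).comap (MulAut.conj M).toMonoidHom :=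
        sup_le
          (fun f hf => mem_sup_left (conj_mem_lifts (fun z hz => by
            rw [D.map_word σ hm, ← hX]; exact D.conj_word y _ hz) hf))
          (fun f hf => mem_sup_right (conj_mem_lifts (fun z hz => by
            rw [D.map_word σ hm, ← hX', ← wprod_neg]; exact D.conj_word y _ hz) hf))
      exact hle he
    have he : M * m k * M⁻¹ * (m i)⁻¹ ∈ D.Tt σ i := by
      refine Subgroup.mem_inf.2 ⟨mul_mem (hMK _ (hm k).1) (inv_mem (hm i).1), ?_⟩
      show σ (M * m k * M⁻¹ * (m i)⁻¹) ∈ D.H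
      rw [map_mul, map_mul, map_mul, map_inv, map_inv, (hm k).2, (hm i).2, D.map_word σ hm]
      exact D.conj_n y k i hy1 hy2
    set e := M * m k * M⁻¹ * (m i)⁻¹ with hedef
    have hτ : m i * e * m i ∈ D.T σ := by
      rw [show m i * e * m i = (m i * e * (m i)⁻¹) * (m i * m i) by group]
      exact mul_mem (D.conj_T σ hm i (mem_iSup_of_mem i he)) (mem_iSup_of_mem i (D.sq_mem σ hm i))
    obtain ⟨τ, hτ', hτe⟩ := D.exists_move' σ hm x hτ
    have hword : ((x ++ i :: y ++ [k]).map m).prod = τ * ((x ++ y).map m).prod := by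
      simp only [List.map_append, List.map_cons, List.map_nil, List.prod_append, List.prod_cons,
        List.prod_nil, mul_one]
      rw [← mul_assoc τ, ← hτe, hedef]
      simp only [M]
      group
    rw [hword]
    refine mul_mem hτ' (ih (x ++ y).length (by subst hl; simp) (x ++ y) rfl ?_)
    rw [← D.map_word σ hm] at hv ⊢
    rw [hword, map_mul] at hv
    exact (Subgroup.mul_mem_cancel_left D.H (show σ τ ∈ D.H from D.T_le_comap σ hτ')).1 hv

include hm hs hc hco hK in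
theorem ker_le_T_of_lifts (hperf : _root_.commutator Γ = ⊤) : σ.ker ≤ D.T σ := by
  have hrange : ∀ P : Subgroup G, P ≤ σ.range := fun P g _ => hs g
  have hUP : ∀ {e : Γ}, e ∈ lifts p σ D.U ↔ σ e ∈ D.U ∧ IsPElt p e :=
    fun {e} => mem_lifts_iff hc hco D.isP (hrange _)
  set Ut := lifts p σ D.U with hUt
  have hXU : ∀ r, D.pos r → lifts p σ (D.X r) ≤ Ut := fun r hr => lifts_mono (D.X_le r hr)
  have hTU : ∀ t ∈ D.T σ, ∀ u ∈ Ut, t * u * t⁻¹ ∈ Ut := fun t ht u hu =>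
    conj_mem_lifts (fun x hx => D.H_U _ (D.T_le_comap σ ht) x hx) hu
  have hTX : ∀ t ∈ D.T σ, ∀ r, ∀ u ∈ lifts p σ (D.X r), t⁻¹ * u * t ∈ lifts p σ (D.X r) := by
    intro t ht r u hu
    have := conj_mem_lifts (g := t⁻¹) (Q := D.X r)
      (fun x hx => D.H_conj _ (D.T_le_comap σ (inv_mem ht)) r x hx) hu
    rwa [inv_inv] at this
  have hliftX : ∀ i, ∀ g ∈ D.X (D.a i), ∃ e ∈ lifts p σ (D.X (D.a i)), σ e = g := fun i g hg =>
    exists_lift hc hco (D.isP.to_le (D.X_le _ (D.pos_a i))) (hrange _) hg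
  have hKmap : ∀ i, ∀ g ∈ D.X (D.a i) ⊔ D.X (D.neg (D.a i)), ∃ e ∈ D.Kt σ i, σ e = g := by
    intro i g hg
    have hle : D.X (D.a i) ⊔ D.X (D.neg (D.a i)) ≤ (D.Kt σ i).map σ := by
      refine sup_le (fun x hx => ?_) (fun x hx => ?_)
      · obtain ⟨e, he, rfl⟩ := hliftX i x hx
        exact ⟨e, mem_sup_left he, rfl⟩
      · obtain ⟨e, he, rfl⟩ := exists_lift hc hco (D.isP_neg i) (hrange _) hx
        exact ⟨e, mem_sup_right he, rfl⟩
    exact hle hg
  let S : Set Γ := {e | ∃ u ∈ Ut, ∃ t ∈ D.T σ, ∃ v : List I, ∃ u' ∈ Ut,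
    e = u * t * (v.map m).prod * u'}
  have hB : ∀ u₀ ∈ Ut, ∀ t₀ ∈ D.T σ, ∀ e ∈ S, u₀ * t₀ * e ∈ S := by
    rintro u₀ hu₀ t₀ ht₀ _ ⟨u, hu, t, ht, v, u', hu', rfl⟩
    exact ⟨u₀ * (t₀ * u * t₀⁻¹), mul_mem hu₀ (hTU _ ht₀ _ hu), t₀ * t, mul_mem ht₀ ht, v, u', hu',
      by group⟩
  -- the rank one step
  have hpos : ∀ (i : I) (v : List I), D.pos ((v.map D.w).prod⁻¹ (D.a i)) →
      ∀ x ∈ lifts p σ (D.X (D.a i)), ∃ x' ∈ Ut, x * (v.map m).prod = (v.map m).prod * x' := by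
    intro i v hr x hx
    refine ⟨((v.map m).prod)⁻¹ * x * (v.map m).prod, ?_, by group⟩
    have := conj_mem_lifts (g := ((v.map m).prod)⁻¹) (Q := D.X ((v.map D.w).prod⁻¹ (D.a i)))
      (fun z hz => by
        rw [map_inv, inv_inv, D.map_word σ hm]
        exact D.conj_word_inv v _ (by simpa using hz)) hx
    rw [inv_inv] at this
    exact hXU _ hr this
  have hsimple : ∀ (i : I) (v : List I), D.pos ((v.map D.w).prod⁻¹ (D.a i)) →
      ∀ u ∈ Ut, ∀ t ∈ D.T σ, ∀ x ∈ lifts p σ (D.X (D.a i)),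
        u * t * (m i * x * (v.map m).prod) ∈ S := by
    intro i v hr u hu t ht x hx
    obtain ⟨x', hx', e⟩ := hpos i v hr x hx
    refine ⟨u, hu, t, ht, i :: v, x', hx', ?_⟩
    simp only [List.map_cons, List.prod_cons]
    rw [mul_assoc (m i) x, e]
    group
  have hstep : ∀ (i : I) (v : List I), ∀ x ∈ lifts p σ (D.X (D.a i)),
      m i * x * (v.map m).prod ∈ S := by
    intro i v x hx
    by_cases hr : D.pos ((v.map D.w).prod⁻¹ (D.a i))
    · simpa using hsimple i v hr 1 (one_mem _) 1 (one_mem _) x hx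
    have hr' : D.pos (((i :: v).map D.w).prod⁻¹ (D.a i)) := by
      have e1 : ((i :: v).map D.w).prod⁻¹ (D.a i) = D.neg ((v.map D.w).prod⁻¹ (D.a i)) := by
        rw [Equiv.Perm.inv_eq_iff_eq]
        simp only [List.map_cons, List.prod_cons, Equiv.Perm.mul_apply, wprod_neg,
          Equiv.Perm.coe_inv, Equiv.apply_symm_apply, D.w_neg, D.w_a, D.neg_neg]
      rw [e1, D.pos_neg]
      exact hr
    have hxK : m i * x * m i ∈ D.Kt σ i := mul_mem (mul_mem (hm i).1 (mem_sup_left hx)) (hm i).1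
    have hτ : (m i * m i)⁻¹ ∈ D.T σ := inv_mem (mem_iSup_of_mem i (D.sq_mem σ hm i))
    have hne : m i * x * (v.map m).prod =
        (m i * x * m i) * (m i * m i)⁻¹ * ((i :: v).map m).prod := by
      simp only [List.map_cons, List.prod_cons]
      group
    have hlift : ∀ y ∈ D.X (D.a i), ∀ h ∈ D.H, y * h ∈ D.X (D.a i) ⊔ D.X (D.neg (D.a i)) →
        ∃ u ∈ lifts p σ (D.X (D.a i)), ∃ t ∈ D.T σ,
          u * t ∈ D.Kt σ i ∧ σ (u * t) = y * h := by
      intro y hy h hh hyh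
      obtain ⟨u, hu, rfl⟩ := hliftX i y hy
      obtain ⟨t, ht, rfl⟩ := hKmap i h (by
        have h1 := mul_mem (inv_mem (mem_sup_left hy : σ u ∈ D.X (D.a i) ⊔ D.X (D.neg (D.a i)))) hyh
        rwa [inv_mul_cancel_left] at h1)
      exact ⟨u, hu, t, mem_iSup_of_mem i ⟨ht, hh⟩, mul_mem (mem_sup_left hu) ht, map_mul _ _ _⟩
    obtain ⟨hσx⟩ : Nonempty (σ x ∈ D.X (D.a i)) := ⟨lifts_le_comap _ hx⟩
    have himg : σ (m i * x * m i) = D.n i * σ x * D.n i := by rw [map_mul, map_mul, (hm i).2]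
    have hin : D.n i * σ x * D.n i ∈ D.X (D.a i) ⊔ D.X (D.neg (D.a i)) := himg ▸
      (D.map_Kt_le σ i ⟨_, hxK, rfl⟩)
    rcases D.rank_one i (σ x) hσx with ⟨y, hy, h, hh, e⟩ | ⟨y, hy, h, hh, y', hy', e⟩
    · obtain ⟨u, hu, t, ht, huK, hσ⟩ := hlift y hy h hh (e ▸ hin)
      rw [hne, D.Kt_inj σ hK hxK huK (by rw [himg, e, hσ])]
      refine ⟨u, hXU _ (D.pos_a i) hu, t * (m i * m i)⁻¹, mul_mem ht hτ, i :: v, 1, one_mem _, ?_⟩
      group
    · have hyh : y * h ∈ D.X (D.a i) ⊔ D.X (D.neg (D.a i)) := by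
        have h1 := mul_mem hin (inv_mem (mul_mem (D.n_mem i) (mem_sup_left hy')))
        rwa [e, show y * h * D.n i * y' * (D.n i * y')⁻¹ = y * h by group] at h1
      obtain ⟨u, hu, t, ht, huK, hσ⟩ := hlift y hy h hh hyh
      obtain ⟨u', hu', hσ'⟩ := hliftX i y' hy'
      have heq : m i * x * m i = u * t * m i * u' := D.Kt_inj σ hK hxK
        (mul_mem (mul_mem huK (hm i).1) (mem_sup_left hu'))
        (by rw [himg, e, map_mul, map_mul, hσ, (hm i).2, hσ'])
      have hu'' := hTX _ hτ _ u' hu'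
      have h3 := hsimple i (i :: v) hr' u (hXU _ (D.pos_a i) hu) (t * (m i * m i)⁻¹)
        (mul_mem ht hτ) _ hu''
      rw [hne, heq]
      convert h3 using 1
      group
  have hmS : ∀ i, ∀ e ∈ S, m i * e ∈ S := by
    rintro i _ ⟨u, hu, t, ht, v, u', hu', rfl⟩
    obtain ⟨x, hx, hxu⟩ := D.split i (σ u) (lifts_le_comap _ hu)
    obtain ⟨xt, hxt, hσx⟩ := hliftX i x hx
    have h1 : m i * (u * xt⁻¹) * (m i)⁻¹ ∈ Ut := by
      refine hUP.2 ⟨?_, ((hUP.1 (mul_mem hu (inv_mem (hXU _ (D.pos_a i) hxt)))).2).conj _⟩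
      rw [map_mul, map_mul, map_inv, map_mul, map_inv, (hm i).2, hσx]
      exact hxu
    have h2 := hstep i v (t⁻¹ * xt * t) (hTX _ ht _ _ hxt)
    obtain ⟨u₁, hu₁, t₁, ht₁, v₁, u₁', hu₁', e⟩ :=
      hB _ h1 _ (D.conj_T σ hm i ht) _ h2
    refine ⟨u₁, hu₁, t₁, ht₁, v₁, u₁' * u', mul_mem hu₁' hu', ?_⟩
    rw [← mul_assoc _ u₁', ← e]
    group
  have hone : (1 : Γ) ∈ S := ⟨1, one_mem _, 1, one_mem _, [], 1, one_mem _, by simp⟩
  let E₀ := Subgroup.closure ((Ut : Set Γ) ∪ Set.range m)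
  have hE : ∀ e ∈ E₀, e ∈ S := by
    intro e he
    induction he using Subgroup.closure_induction_left with
    | one => exact hone
    | mul_left x hx y _ hy =>
      rcases hx with hx | ⟨i, rfl⟩
      · simpa using hB x hx 1 (one_mem _) y hy
      · exact hmS i y hy
    | inv_mul_cancel x hx y _ hy =>
      rcases hx with hx | ⟨i, rfl⟩
      · simpa using hB x⁻¹ (inv_mem hx) 1 (one_mem _) y hy
      · have h := hB 1 (one_mem _) _ (inv_mem (mem_iSup_of_mem i (D.sq_mem σ hm i))) _ (hmS i y hy)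
        convert h using 1
        group
  have htop : E₀ = ⊤ := by
    rw [eq_top_iff, ← hperf]
    refine SLCover.commutator_le_of_map_eq_top σ hc E₀ (eq_top_iff.2 (D.gen ▸ ?_))
    refine sup_le (fun g hg => ?_) ((Subgroup.closure_le _).2 ?_)
    · obtain ⟨e, he, rfl⟩ := exists_lift hc hco D.isP (hrange _) hg
      exact ⟨e, Subgroup.subset_closure (Or.inl he), rfl⟩
    · rintro _ ⟨i, rfl⟩
      exact ⟨m i, Subgroup.subset_closure (Or.inr ⟨i, rfl⟩), (hm i).2⟩
  intro z hz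
  obtain ⟨u, hu, t, ht, v, u', hu', rfl⟩ := hE z (htop ▸ mem_top z)
  rw [MonoidHom.mem_ker] at hz
  have hσt := D.T_le_comap σ ht
  have hσu : σ u ∈ D.U := lifts_le_comap _ hu
  have hσu' : σ u' ∈ D.U := lifts_le_comap _ hu'
  have hv : (v.map D.n).prod ∈ D.H := by
    refine D.NB v ?_
    rw [← D.map_word σ hm]
    rw [map_mul, map_mul, map_mul] at hz
    have e : σ (v.map m).prod = (σ u * σ t)⁻¹ * (σ u')⁻¹ := by
      rw [eq_inv_mul_iff_mul_eq, eq_inv_iff_mul_eq_one]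
      exact hz
    rw [e]
    exact mul_mem (inv_mem (mul_mem (mem_sup_left hσu) (mem_sup_right hσt)))
      (inv_mem (mem_sup_left hσu'))
  have ht' := mul_mem ht (D.word_mem_T σ hm v hv)
  set t' := t * (v.map m).prod with ht'def
  have e2 : u * t * (v.map m).prod * u' = u * (t' * u' * t'⁻¹) * t' := by rw [ht'def]; group
  rw [e2] at hz ⊢
  have hu2 : u * (t' * u' * t'⁻¹) ∈ Ut := mul_mem hu (hTU _ ht' _ hu')
  set u₂ := u * (t' * u' * t'⁻¹)
  rw [map_mul] at hz
  have h1 : σ u₂ ∈ D.U ⊓ D.H :=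
    Subgroup.mem_inf.2 ⟨lifts_le_comap _ hu2, by
      rw [eq_inv_of_mul_eq_one_left hz]; exact inv_mem (D.T_le_comap σ ht')⟩
  rw [D.UH, mem_bot] at h1
  have hu0 : u₂ ∈ lifts p σ D.U ⊓ σ.ker := Subgroup.mem_inf.2 ⟨hu2, h1⟩
  rw [lifts_inf_ker hc hco D.isP (hrange _), mem_bot] at hu0
  rw [hu0, one_mul]
  exact ht'

include hs hc hco hK in
/-- The kernel of a perfect central extension with kernel of order prime to `p` lies in the lifted torus. -/
theorem ker_le_T (hperf : _root_.commutator Γ = ⊤) : σ.ker ≤ D.T σ := by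
  have hrange : ∀ P : Subgroup G, P ≤ σ.range := fun P g _ => hs g
  have key : ∀ i, ∃ e ∈ D.Kt σ i, σ e = D.n i := by
    intro i
    have hle : D.X (D.a i) ⊔ D.X (D.neg (D.a i)) ≤ (D.Kt σ i).map σ := by
      refine sup_le (fun x hx => ?_) (fun x hx => ?_)
      · obtain ⟨e, he, rfl⟩ :=
          exists_lift hc hco (D.isP.to_le (D.X_le _ (D.pos_a i))) (hrange _) hx
        exact ⟨e, mem_sup_left he, rfl⟩
      · obtain ⟨e, he, rfl⟩ := exists_lift hc hco (D.isP_neg i) (hrange _) hx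
        exact ⟨e, mem_sup_right he, rfl⟩
    exact hle (D.n_mem i)
  choose m hm1 hm2 using key
  exact D.ker_le_T_of_lifts σ hs hc hco hK (fun i => ⟨hm1 i, hm2 i⟩) hperf

include hs hc hco hK in
/-- The kernel is bounded by the relations between the tori of the rank one subgroups. -/
theorem card_ker_le [Finite I] [DecidableEq I] (hperf : _root_.commutator Γ = ⊤) {P : I → Type*}
    [∀ i, CommGroup (P i)] [∀ i, Finite (P i)] (h : ∀ i, P i →* G) (hinj : ∀ i, Function.Injective (h i))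
    (hle : ∀ i, (D.X (D.a i) ⊔ D.X (D.neg (D.a i))) ⊓ D.H ≤ (h i).range)
    (Ψ : (∀ i, P i) →* G) (hΨ : ∀ i x, Ψ (Pi.mulSingle i x) = h i x) :
    Nat.card σ.ker ≤ Nat.card Ψ.ker := by
  classical
  have := Fintype.ofFinite I
  have hcomm : Pairwise fun i j : I => ∀ x y : Γ, x ∈ D.Tt σ i → y ∈ D.Tt σ j → Commute x y :=
    fun i j _ x y hx hy => D.commute_Tt σ hK hx.2 hy
  let ψ := Subgroup.noncommPiCoprod hcomm
  have hψ : ψ.range = D.T σ := Subgroup.noncommPiCoprod_range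
  have hmem : ∀ (i : I) (x : ↥(D.Tt σ i)), σ (x : Γ) ∈ (h i).range := fun i x =>
    hle i ⟨D.map_Kt_le σ i ⟨x, x.2.1, rfl⟩, x.2.2⟩
  let gi : ∀ i, ↥(D.Tt σ i) →* P i := fun i =>
    (MonoidHom.ofInjective (hinj i)).symm.toMonoidHom.comp
      ((σ.comp (D.Tt σ i).subtype).codRestrict _ (hmem i))
  have hgi : ∀ (i : I) (x : ↥(D.Tt σ i)), h i (gi i x) = σ (x : Γ) := fun i x =>
    MonoidHom.apply_ofInjective_symm (hinj i) _
  let g : (∀ i, ↥(D.Tt σ i)) →* ∀ i, P i :=
    MonoidHom.mk' (fun t i => gi i (t i)) fun s t => funext fun i => map_mul (gi i) (s i) (t i)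
  have hcomp : Ψ.comp g = σ.comp ψ := by
    refine MonoidHom.pi_ext fun i x => ?_
    rw [MonoidHom.comp_apply, MonoidHom.comp_apply]
    show Ψ (g (Pi.mulSingle i x)) = σ (Subgroup.noncommPiCoprod hcomm (Pi.mulSingle i x))
    rw [Subgroup.noncommPiCoprod_mulSingle,
      show g (Pi.mulSingle i x) = Pi.mulSingle i (gi i x) from funext fun j => by
        show gi j (Pi.mulSingle (M := fun i => ↥(D.Tt σ i)) i x j) = _
        exact Pi.apply_mulSingle (fun j => gi j) (fun j => map_one (gi j)) i x j,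
      hΨ, hgi]
  have hginj : Function.Injective g := fun s t e => funext fun i => Subtype.ext (D.Kt_inj σ hK
    (s i).2.1 (t i).2.1 (by rw [← hgi, ← hgi]; exact congrArg (h i) (congrFun e i)))
  let f : (σ.comp ψ).ker → Ψ.ker := fun t => ⟨g t, by
    rw [MonoidHom.mem_ker, ← MonoidHom.comp_apply, hcomp]; exact t.2⟩
  have hker := D.ker_le_T σ hs hc hco hK hperf
  let π : (σ.comp ψ).ker → σ.ker := fun t => ⟨ψ t, t.2⟩
  have hπ : Function.Surjective π := fun z => by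
    obtain ⟨t, ht⟩ : (z : Γ) ∈ ψ.range := hψ ▸ hker z.2
    exact ⟨⟨t, show σ (ψ t) = 1 by rw [ht]; exact z.2⟩, Subtype.ext ht⟩
  refine (Nat.card_le_card_of_surjective π hπ).trans (Nat.card_le_card_of_injective f ?_)
  exact fun s t e => Subtype.ext (hginj (congrArg Subtype.val e))

end Data

end CfsgLib.E6Schur
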