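import Cfsg.Agent.Lib.TwistCover.Root
import Cfsg.Agent.Lib.Twisted.E6Weyl
import Cfsg.Agent.Lib.Twisted.E6Torus

/-!
The setup of the twisted group of type E6 for `Lib.TwistCover`: the words are chosen representatives of
all permutations of roots given by the orbit reflections, and they carry reflections to reflections as
they act linearly and preserve the Cartan form.
-/

set_option autoImplicit false
set_option linter.unusedSectionVars false

namespace CfsgLib.E6Schur

open Cfsg.Lie CfsgLib.Chev CfsgLib.Chevalley CfsgLib.Twisted CfsgLib.TwistCover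
open CfsgLib.Twisted.E6 (sym sym_test tb sym_nodeTest sym_bnTest)

/-- The Cartan form. -/
def cForm (v w : Fin chevE6.rank → ℤ) : ℤ := ∑ i, v i * ∑ j, cm chevE6 i j * w j

/-- The reflection in a vector of norm two. -/
def sVec (a v : Fin chevE6.rank → ℤ) : Fin chevE6.rank → ℤ := v - cForm a v • a

theorem single_one_inj {a b : Fin chevE6.rank}
    (h : (Pi.single a 1 : Fin chevE6.rank → ℤ) = Pi.single b 1) : a = b := by
  by_contra hne
  have := congrFun h a
  rw [Pi.single_eq_same, Pi.single_eq_of_ne hne] at this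
  exact one_ne_zero this

theorem cm_symm : ∀ i j : Fin chevE6.rank, cm chevE6 i j = cm chevE6 j i := by decide +kernel

theorem cForm_comm (v w : Fin chevE6.rank → ℤ) : cForm v w = cForm w v := by
  simp only [cForm, Finset.mul_sum]
  rw [Finset.sum_comm]
  exact Finset.sum_congr rfl fun i _ => Finset.sum_congr rfl fun j _ => by rw [cm_symm j i]; ring

theorem cForm_sub (v w z : Fin chevE6.rank → ℤ) : cForm v (w - z) = cForm v w - cForm v z := by
  simp only [cForm, ← Finset.sum_sub_distrib, ← mul_sub]
  exact Finset.sum_congr rfl fun i _ => by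
    simp only [← Finset.sum_sub_distrib, ← mul_sub, Pi.sub_apply]

theorem cForm_smul (c : ℤ) (v w : Fin chevE6.rank → ℤ) : cForm v (c • w) = c * cForm v w := by
  simp only [cForm, Finset.mul_sum, Pi.smul_apply, smul_eq_mul]
  exact Finset.sum_congr rfl fun i _ => Finset.sum_congr rfl fun j _ => by ring

theorem refl_eq (i : Fin chevE6.rank) (v : Fin chevE6.rank → ℤ) :
    Chev.refl chevE6 i v = sVec (Pi.single i 1) v := by
  have h : cForm (Pi.single i 1) v = ∑ j, cm chevE6 i j * v j := by
    rw [cForm, Finset.sum_eq_single i]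
    · simp
    · intro b _ hb; simp [hb]
    · simp
  funext k
  simp [Chev.refl, sVec, h, Pi.single_apply]

/-- Composite of fundamental reflections. -/
def reflL (l : List (Fin chevE6.rank)) (v : Fin chevE6.rank → ℤ) : Fin chevE6.rank → ℤ :=
  l.foldr (fun i w => Chev.refl chevE6 i w) v

theorem cForm_self_single : ∀ i : Fin chevE6.rank, cForm (Pi.single i 1) (Pi.single i 1) = 2 := by
  decide +kernel

theorem refl_iso (i : Fin chevE6.rank) (v w : Fin chevE6.rank → ℤ) :
    cForm (Chev.refl chevE6 i v) (Chev.refl chevE6 i w) = cForm v w := by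
  set a : Fin chevE6.rank → ℤ := Pi.single i 1
  have ha : cForm a a = 2 := cForm_self_single i
  rw [refl_eq, refl_eq, sVec, sVec, cForm_sub, cForm_smul, cForm_comm (v - _) w,
    cForm_comm (v - _) a, cForm_sub, cForm_smul, cForm_sub, cForm_smul, ha, cForm_comm w v,
    cForm_comm w a]
  ring

theorem reflL_sVec (l : List (Fin chevE6.rank)) (a v : Fin chevE6.rank → ℤ) :
    reflL l (sVec a v) = sVec (reflL l a) (reflL l v) := by
  induction l generalizing a v with
  | nil => rfl
  | cons i l ih =>
    show Chev.refl chevE6 i (reflL l (sVec a v)) = _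
    rw [ih]
    show Chev.refl chevE6 i (reflL l v - cForm (reflL l a) (reflL l v) • reflL l a) = _
    rw [sub_eq_add_neg, ← neg_smul, refl_add, refl_smul, neg_smul, ← sub_eq_add_neg]
    show _ = sVec (Chev.refl chevE6 i (reflL l a)) (Chev.refl chevE6 i (reflL l v))
    rw [sVec, refl_iso]

theorem reflL_append (l l' : List (Fin chevE6.rank)) (v : Fin chevE6.rank → ℤ) :
    reflL (l ++ l') v = reflL l (reflL l' v) := List.foldr_append

theorem sVec_comm {a b : Fin chevE6.rank → ℤ} (h : cForm a b = 0) (v : Fin chevE6.rank → ℤ) :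
    sVec a (sVec b v) = sVec b (sVec a v) := by
  have h' : cForm b a = 0 := by rw [cForm_comm, h]
  simp only [sVec, cForm_sub, cForm_smul, h, h', mul_zero, sub_zero]
  abel

/-- The simple roots of the orbit of a node. -/
def orbNodes (x : Fin chevE6.rank) : List (Fin chevE6.rank) :=
  if imgNode sym_test x = x then [x] else [x, imgNode sym_test x]

theorem node_facts : ∀ x : Fin chevE6.rank,
    ((imgNode sym_test x = x ∧ sym.olen (chevE6.simple x.1) = 1) ∨
      (imgNode sym_test x ≠ x ∧ sym.olen (chevE6.simple x.1) = 2)) ∧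
    sym.nodeIter 0 x.1 = x.1 ∧ sym.nodeIter 1 x.1 = (imgNode sym_test x).1 ∧
    sym.img (chevE6.simple x.1) = chevE6.simple (imgNode sym_test x).1 ∧
    (imgNode sym_test x ≠ x →
      cForm (Pi.single x 1) (Pi.single (imgNode sym_test x) 1) = 0) := by decide +kernel

theorem flip_facts : ∀ i ∈ sym.repNodes, ∀ p, p < chevE6.nroots → chevE6.nroots / 2 ≤ p →
    ¬ chevE6.nroots / 2 ≤ sym.wO i p → p = chevE6.simple i ∨ p = sym.img (chevE6.simple i) := by
  decide +kernel

theorem rep_lt {i : ℕ} (hi : i ∈ sym.repNodes) : i < chevE6.rank := (mem_repNodes hi).1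

theorem wO_lt' {i : ℕ} (hi : i < chevE6.rank) {s : ℕ} (hs : s < chevE6.nroots) :
    sym.wO i s < chevE6.nroots :=
  wO_lt CfsgLib.Chev.E6.checked sym_test hi hs

/-- The root vector after an orbit reflection. -/
theorem rv_wO (x : Fin chevE6.rank) {s : ℕ} (hs : s < chevE6.nroots) :
    rv chevE6 tb (sym.wO x.1 s) = reflL (orbNodes x) (rv chevE6 tb s) := by
  have hc := CfsgLib.Chev.E6.checked
  obtain ⟨hcase, h0, h1, -, -⟩ := node_facts x
  rcases hcase with ⟨e, ho⟩ | ⟨e, ho⟩
  · rw [TwistSym.wO, ho, orbNodes, if_pos e]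
    show rv chevE6 tb (chevE6.reflectRoot (sym.nodeIter 0 x.1) s) = Chev.refl chevE6 x _
    rw [h0, reflectRoot_eq hc x hs, rv_sig hc x hs]
    rfl
  · rw [TwistSym.wO, ho, orbNodes, if_neg e]
    show rv chevE6 tb (chevE6.reflectRoot (sym.nodeIter 0 x.1)
      (chevE6.reflectRoot (sym.nodeIter 1 x.1) s)) = Chev.refl chevE6 x (Chev.refl chevE6 _ _)
    rw [h0, h1, reflectRoot_eq hc _ hs, reflectRoot_eq hc x (sig_lt hc _ hs),
      rv_sig hc x (sig_lt hc _ hs), rv_sig hc _ hs]
    rfl

theorem wWord_lt {u : List ℕ} (hu : ∀ i ∈ u, i ∈ sym.repNodes) {s : ℕ} (hs : s < chevE6.nroots) :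
    sym.wWord u s < chevE6.nroots := by
  induction u with
  | nil => exact hs
  | cons i u ih =>
    exact wO_lt' (rep_lt (hu i List.mem_cons_self)) (ih fun j hj => hu j (List.mem_cons_of_mem _ hj))

/-- A word acts linearly, commutes with the symmetry and preserves the form. -/
theorem word_linear {u : List ℕ} (hu : ∀ i ∈ u, i ∈ sym.repNodes) :
    ∃ l : List (Fin chevE6.rank), ∀ s, s < chevE6.nroots →
      rv chevE6 tb (sym.wWord u s) = reflL l (rv chevE6 tb s) ∧
      sym.wWord u (sym.img s) = sym.img (sym.wWord u s) := by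
  induction u with
  | nil => exact ⟨[], fun s _ => ⟨rfl, rfl⟩⟩
  | cons i u ih =>
    have hu' : ∀ j ∈ u, j ∈ sym.repNodes := fun j hj => hu j (List.mem_cons_of_mem _ hj)
    obtain ⟨l, hl⟩ := ih hu'
    have hi := rep_lt (hu i List.mem_cons_self)
    refine ⟨orbNodes ⟨i, hi⟩ ++ l, fun s hs => ⟨?_, ?_⟩⟩
    · show rv chevE6 tb (sym.wO i (sym.wWord u s)) = _
      rw [rv_wO ⟨i, hi⟩ (wWord_lt hu' hs), (hl s hs).1, reflL_append]
    · show sym.wO i (sym.wWord u (sym.img s)) = sym.img (sym.wO i (sym.wWord u s))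
      rw [(hl s hs).2]
      exact (TwistSym.wO_spec sym_nodeTest hi (wWord_lt hu' hs)).1

theorem wWord_inj {u : List ℕ} (hu : ∀ i ∈ u, i ∈ sym.repNodes) {a b : ℕ} (ha : a < chevE6.nroots)
    (hb : b < chevE6.nroots) (h : sym.wWord u a = sym.wWord u b) : a = b := by
  induction u generalizing a b with
  | nil => exact h
  | cons i u ih =>
    have hu' : ∀ j ∈ u, j ∈ sym.repNodes := fun j hj => hu j (List.mem_cons_of_mem _ hj)
    refine ih hu' ha hb ?_
    have h' := congrArg (sym.wO i) (show sym.wO i (sym.wWord u a) = sym.wO i (sym.wWord u b) from h)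
    rwa [(TwistSym.wO_spec sym_nodeTest (rep_lt (hu i List.mem_cons_self)) (wWord_lt hu' ha)).2.1,
      (TwistSym.wO_spec sym_nodeTest (rep_lt (hu i List.mem_cons_self)) (wWord_lt hu' hb)).2.1] at h'

/-- A word carrying a fundamental root to one flipped by `i` carries the reflection to that of `i`. -/
theorem word_refl_eq {u : List ℕ} (hu : ∀ j ∈ u, j ∈ sym.repNodes) {k i : ℕ} (hk : k ∈ sym.repNodes)
    (hi : i ∈ sym.repNodes) (h1 : chevE6.nroots / 2 ≤ sym.wWord u (chevE6.simple k))
    (h2 : ¬ chevE6.nroots / 2 ≤ sym.wO i (sym.wWord u (chevE6.simple k))) {r : ℕ}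
    (hr : r < chevE6.nroots) : sym.wO i (sym.wWord u r) = sym.wWord u (sym.wO k r) := by
  have hc := CfsgLib.Chev.E6.checked
  obtain ⟨l, hl⟩ := word_linear hu
  set x : Fin chevE6.rank := ⟨k, rep_lt hk⟩
  set y : Fin chevE6.rank := ⟨i, rep_lt hi⟩
  have hxk := simple_lt hc x.2
  have hflip := flip_facts i hi _ (wWord_lt hu hxk) h1 h2
  refine rv_inj (T := tb) hc (wO_lt' y.2 (wWord_lt hu hr))
    (wWord_lt hu (wO_lt' x.2 hr)) ?_
  rw [show sym.wO i (sym.wWord u r) = sym.wO y.1 (sym.wWord u r) from rfl,
    show sym.wO k r = sym.wO x.1 r from rfl, rv_wO y (wWord_lt hu hr), (hl r hr).1,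
    (hl _ (wO_lt' x.2 hr)).1, rv_wO x hr]
  obtain ⟨hcx, -, -, hix, -⟩ := node_facts x
  obtain ⟨hcy, -, -, hiy, horth⟩ := node_facts y
  have himg : rv chevE6 tb (sym.wWord u (sym.img (chevE6.simple k))) =
      reflL l (Pi.single (imgNode sym_test x) 1) := by
    rw [(hl _ (TwistSym.img_lt sym_test hxk)).1, show chevE6.simple k = chevE6.simple x.1 from rfl,
      hix, rv_simple hc]
  have hkk : rv chevE6 tb (sym.wWord u (chevE6.simple k)) = reflL l (Pi.single x 1) := by
    rw [(hl _ hxk).1, show chevE6.simple k = chevE6.simple x.1 from rfl, rv_simple hc]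
  have hcomm := (hl _ hxk).2
  rcases hflip with hp | hp
  · -- the root goes to the fundamental root of `i`
    have e1 : reflL l (Pi.single x 1) = Pi.single y 1 := by
      rw [← hkk]; exact (congrArg (rv chevE6 tb) hp).trans (rv_simple hc y)
    have e2 : reflL l (Pi.single (imgNode sym_test x) 1) = Pi.single (imgNode sym_test y) 1 := by
      rw [← himg]
      show rv chevE6 tb (sym.wWord u (sym.img (chevE6.simple k))) = _
      rw [hcomm, hp, show chevE6.simple i = chevE6.simple y.1 from rfl, hiy, rv_simple hc]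
    by_cases hy : imgNode sym_test y = y
    · have hx : imgNode sym_test x = x := by
        by_contra hne
        refine hne (Fin.ext (simple_inj hc (imgNode sym_test x).2 x.2 ?_))
        rw [← hix]
        refine wWord_inj hu (TwistSym.img_lt sym_test hxk) hxk ?_
        show sym.wWord u (sym.img (chevE6.simple k)) = sym.wWord u (chevE6.simple k)
        rw [hcomm, hp, show chevE6.simple i = chevE6.simple y.1 from rfl, hiy, hy]
      rw [orbNodes, if_pos hy, orbNodes, if_pos hx]
      show Chev.refl chevE6 y _ = reflL l (Chev.refl chevE6 x _)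
      rw [refl_eq, refl_eq, reflL_sVec, e1]
      rfl
    · have hx : imgNode sym_test x ≠ x := fun hx => hy (by
        have h := e2
        rw [hx, e1] at h
        exact (single_one_inj h).symm)
      rw [orbNodes, if_neg hy, orbNodes, if_neg hx]
      show Chev.refl chevE6 y (Chev.refl chevE6 _ _) = reflL l (Chev.refl chevE6 x (Chev.refl chevE6 _ _))
      rw [refl_eq, refl_eq, refl_eq, refl_eq, reflL_sVec, reflL_sVec, e1, e2]
      rfl
  · -- the root goes to the image of the fundamental root of `i`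
    have e1 : reflL l (Pi.single x 1) = Pi.single (imgNode sym_test y) 1 := by
      rw [← hkk]; exact (congrArg (rv chevE6 tb) (hp.trans hiy)).trans (rv_simple hc _)
    have hback : sym.img (sym.img (chevE6.simple y.1)) = chevE6.simple y.1 := by
      rcases hcy with ⟨e, -⟩ | ⟨-, ho⟩
      · rw [hiy, e, hiy, e]
      · have h := TwistSym.imgIter_olen sym_test (simple_lt hc y.2)
        rw [ho] at h
        exact h
    have e2 : reflL l (Pi.single (imgNode sym_test x) 1) = Pi.single y 1 := by
      rw [← himg]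
      show rv chevE6 tb (sym.wWord u (sym.img (chevE6.simple k))) = _
      rw [hcomm, hp, show chevE6.simple i = chevE6.simple y.1 from rfl, hback, rv_simple hc]
    by_cases hy : imgNode sym_test y = y
    · have hx : imgNode sym_test x = x := by
        by_contra hne
        refine hne (Fin.ext (simple_inj hc (imgNode sym_test x).2 x.2 ?_))
        rw [← hix]
        refine wWord_inj hu (TwistSym.img_lt sym_test hxk) hxk ?_
        show sym.wWord u (sym.img (chevE6.simple k)) = sym.wWord u (chevE6.simple k)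
        rw [hcomm, hp, show chevE6.simple i = chevE6.simple y.1 from rfl, hback, hiy, hy]
      rw [hy] at e1
      rw [orbNodes, if_pos hy, orbNodes, if_pos hx]
      show Chev.refl chevE6 y _ = reflL l (Chev.refl chevE6 x _)
      rw [refl_eq, refl_eq, reflL_sVec, e1]
      rfl
    · have hx : imgNode sym_test x ≠ x := fun hx => hy (by
        have h := e2
        rw [hx, e1] at h
        exact single_one_inj h)
      rw [orbNodes, if_neg hy, orbNodes, if_neg hx]
      show Chev.refl chevE6 y (Chev.refl chevE6 _ _) = reflL l (Chev.refl chevE6 x (Chev.refl chevE6 _ _))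
      rw [refl_eq, refl_eq, refl_eq, refl_eq, reflL_sVec, reflL_sVec, e1, e2]
      exact sVec_comm (horth hy) _

/-- The maps of roots given by words. -/
def IsWordMap (f : Fin chevE6.nroots → Fin chevE6.nroots) : Prop :=
  ∃ u : List ℕ, (∀ i ∈ u, i ∈ sym.repNodes) ∧ ∀ r : Fin chevE6.nroots, sym.wWord u r.1 = (f r).1

/-- A word for every map given by a word. -/
noncomputable def repWords : List (List ℕ) :=
  [] :: (Set.toFinite {f | IsWordMap f}).toFinset.attach.toList.map fun f =>
    ((Set.toFinite {f | IsWordMap f}).mem_toFinset.1 f.2).choose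

theorem repWords_nodes {u : List ℕ} (hu : u ∈ repWords) : ∀ i ∈ u, i ∈ sym.repNodes := by
  rcases List.mem_cons.1 hu with rfl | hu
  · simp
  · obtain ⟨f, -, rfl⟩ := List.mem_map.1 hu
    exact ((Set.toFinite {f | IsWordMap f}).mem_toFinset.1 f.2).choose_spec.1

theorem repWords_cover {u : List ℕ} (hu : ∀ i ∈ u, i ∈ sym.repNodes) :
    ∃ u' ∈ repWords, ∀ r, r < chevE6.nroots → sym.wWord u' r = sym.wWord u r := by
  let f : Fin chevE6.nroots → Fin chevE6.nroots := fun r => ⟨sym.wWord u r.1, wWord_lt hu r.2⟩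
  have hf : f ∈ (Set.toFinite {f | IsWordMap f}).toFinset :=
    (Set.toFinite {f | IsWordMap f}).mem_toFinset.2 ⟨u, hu, fun _ => rfl⟩
  refine ⟨_, List.mem_cons_of_mem _ (List.mem_map.2 ⟨⟨f, hf⟩, Finset.mem_toList.2
    (Finset.mem_attach _ _), rfl⟩), fun r hr => ?_⟩
  exact ((Set.toFinite {f | IsWordMap f}).mem_toFinset.1 hf).choose_spec.2 ⟨r, hr⟩

theorem refl_ok : reflTest sym repWords = true := by
  simp only [reflTest, Bool.and_eq_true, decide_eq_true_eq, List.all_eq_true, List.any_eq_true,
    List.mem_range, Bool.or_eq_true]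
  refine ⟨⟨List.mem_cons_self, fun u hu i hi => ?_⟩, fun u hu k hk i hi => ?_⟩
  · obtain ⟨u', hu', h⟩ := repWords_cover (u := i :: u) fun j hj => by
      rcases List.mem_cons.1 hj with rfl | hj
      exacts [hi, repWords_nodes hu j hj]
    exact ⟨u', hu', h⟩
  · by_cases h1 : sym.wWord u (chevE6.simple k) < chevE6.nroots / 2
    · exact Or.inl (Or.inl h1)
    by_cases h2 : chevE6.nroots / 2 ≤ sym.wO i (sym.wWord u (chevE6.simple k))
    · exact Or.inl (Or.inr h2)
    exact Or.inr fun r hr => word_refl_eq (repWords_nodes hu) hk hi (Nat.not_lt.1 h1) h2 hr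

theorem setup : TwistCover.Setup chevE6 tb sym CfsgLib.Twisted.E6.hts repWords :=
  ⟨CfsgLib.Chev.E6.checked, sym_test, CfsgLib.Twisted.E6.comm_one, CfsgLib.Twisted.E6.orbit_ok,
    sym_nodeTest, sym_bnTest, refl_ok⟩

end CfsgLib.E6Schur
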