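import Cfsg.Agent.Lib.E6Schur.Data
import Cfsg.Agent.Lib.E6Schur.Setup
import Cfsg.Agent.Lib.D4Schur.Lift
import Cfsg.Agent.Lib.Twisted.E6Order

/-!
Stem extensions of twisted groups of type E6 over fields with `q ^ 2` elements, `q ≠ 2`, have kernels of
order prime to the characteristic: the root subgroups lift, and so does the unipotent subgroup.
-/

set_option autoImplicit false
set_option linter.unusedSectionVars false

namespace CfsgLib.E6Schur

open Cfsg.Lie CfsgLib.Chev CfsgLib.Chevalley CfsgLib.Twisted CfsgLib.TwistCover Subgroup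
open CfsgLib.Twisted.E6 (sym sym_test tb)
open CfsgLib.ReeF4Schur (Fpf Norms Good lift)
open scoped commutatorElement

variable {K : Type*} [Field K] (φ : K ≃+* K)

theorem root_lt (i : Fin 24) : rootAt i < chevE6.nroots := (mem_repList (root_mem i)).1

/-- The torus in the twisted group. -/
noncomputable abbrev Tor : Subgroup ↥(twistGrp sym_test φ) :=
  (chevE6.diagonalSubgroup K).subgroupOf (twistGrp sym_test φ)

/-- The root subgroups in the twisted group. -/
noncomputable abbrev Xi (i : Fin 24) : Subgroup ↥(twistGrp sym_test φ) :=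
  (xSub setup φ (root_lt i)).subgroupOf (twistGrp sym_test φ)

theorem norms_Xi (i : Fin 24) : Norms (Tor φ) (Xi φ i) := fun t ht _ hx =>
  diag_conj_xSub setup φ (Subgroup.mem_subgroupOf.1 ht) t.2 (root_lt i) (Subgroup.mem_subgroupOf.1 hx)

theorem Tor_comm {s t : ↥(twistGrp sym_test φ)} (hs : s ∈ Tor φ) (ht : t ∈ Tor φ) : s * t = t * s := by
  have hc := CfsgLib.Chev.E6.checked
  obtain ⟨c, hc'⟩ := (mem_diagonal hc).1 (Subgroup.mem_subgroupOf.1 hs)
  obtain ⟨c', hc''⟩ := (mem_diagonal hc).1 (Subgroup.mem_subgroupOf.1 ht)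
  apply Subtype.ext
  show (s : GL chevE6.Idx K) * t = t * s
  rw [← hc', ← hc'', ← map_mul, ← map_mul, ← map_mul, ← map_mul, mul_comm]

/-! ### the torus elements -/

/-- The parameter given by exponents and a unit. -/
noncomputable def parVec (l : Fin chevE6.rank → ℤ) (u : Kˣ) : Fin chevE6.rank → Kˣ := fun j =>
  u ^ l j * Units.map φ.toRingHom.toMonoidHom u ^ l (preNode sym_test j)

theorem prod_zpow_int {α M : Type*} [CommGroup M] (s : Finset α) (g : α → M) (n : ℤ) :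
    (∏ a ∈ s, g a) ^ n = ∏ a ∈ s, g a ^ n :=
  map_prod (zpowGroupHom n) g s

theorem chi_parVec (l : Fin chevE6.rank → ℤ) (u : Kˣ) {r : ℕ} (hr : r < chevE6.nroots) :
    chi (hPar chevE6 K (parVec φ l u)) (rv chevE6 tb r) =
      u ^ expA l r * Units.map φ.toRingHom.toMonoidHom u ^ expB l r := by
  have h : chi (hPar chevE6 K (parVec φ l u)) (rv chevE6 tb r) =
      ∏ i, parVec φ l u i ^ chevE6.cartan i r := by
    show ∏ j, (∏ i, parVec φ l u i ^ cm chevE6 i j) ^ rv chevE6 tb r j = _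
    simp only [prod_zpow_int, ← zpow_mul]
    rw [Finset.prod_comm]
    refine Finset.prod_congr rfl fun i _ => ?_
    rw [cartan_linear CfsgLib.Chev.E6.checked i hr, prod_zpow_sum]
  rw [h]
  simp only [parVec, mul_zpow, ← zpow_mul, Finset.prod_mul_distrib, prod_zpow_sum, expA, expB]

variable [Fintype K] {q : ℕ} (hq : IsPrimePow q) (hK : Fintype.card K = q ^ 2) (h2 : q ≠ 2)
  (hφ : ∀ x, φ x = x ^ q)
include hq hK h2 hφ

theorem parVec_fixed (l : Fin chevE6.rank → ℤ) (u : Kˣ) : parVec φ l u ∈ fixPar sym_test φ := by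
  rw [mem_fixPar]
  funext j
  show Units.map φ.toRingHom.toMonoidHom
    (u ^ l (preNode sym_test j) * Units.map φ.toRingHom.toMonoidHom u ^ l (preNode sym_test (preNode sym_test j))) = _
  have hh : Units.map φ.toRingHom.toMonoidHom (Units.map φ.toRingHom.toMonoidHom u) = u :=
    Units.ext (iterate_frob_card hφ hK (u : K))
  rw [map_mul, map_zpow, map_zpow, hh, Twisted.E6.pre_pre, mul_comm]
  rfl

theorem exists_unit : ∃ u : Kˣ, u ≠ 1 ∧ u ^ q ≠ 1 ∧ u ^ (q + 1) ≠ 1 := by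
  obtain ⟨u, hu⟩ := IsCyclic.exists_generator (α := Kˣ)
  have ho : orderOf u = q ^ 2 - 1 := by
    rw [orderOf_eq_card_of_forall_mem_zpowers hu, Nat.card_units, Nat.card_eq_fintype_card, hK]
  have h3 : 3 ≤ q := by have := hq.one_lt; omega
  have hlt : q + 1 < q ^ 2 - 1 := by
    have : 3 * q ≤ q ^ 2 := by rw [pow_two]; exact Nat.mul_le_mul_right q h3
    omega
  have key : ∀ n, 0 < n → n ≤ q + 1 → u ^ n ≠ 1 := fun n hn hn' e => by
    have := Nat.le_of_dvd hn (orderOf_dvd_of_pow_eq_one e)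
    omega
  exact ⟨u, by simpa using key 1 one_pos (by omega), key q (by omega) (by omega),
    key (q + 1) (by omega) le_rfl⟩

theorem mover_ne_one {u : Kˣ} (h1 : u ≠ 1) (hu2 : u ^ q ≠ 1) (h3 : u ^ (q + 1) ≠ 1) {A B : ℤ}
    (h : (A, B) ∈ movers) : u ^ A * Units.map φ.toRingHom.toMonoidHom u ^ B ≠ 1 := by
  have hu : Units.map φ.toRingHom.toMonoidHom u = u ^ q :=
    Units.ext (by rw [Units.val_pow_eq_pow_val]; exact hφ _)
  rw [hu]
  simp only [movers, List.mem_cons, Prod.mk.injEq, List.not_mem_nil, or_false] at h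
  rw [pow_succ] at h3
  rcases h with ⟨rfl, rfl⟩ | ⟨rfl, rfl⟩ | ⟨rfl, rfl⟩ | ⟨rfl, rfl⟩ | ⟨rfl, rfl⟩ | ⟨rfl, rfl⟩
  · simpa using h1
  · simpa using hu2
  · rw [zpow_one, zpow_one, mul_comm]; exact h3
  · simpa using h1
  · simpa using hu2
  · rw [zpow_neg_one, zpow_neg_one, ← mul_inv, ne_eq, inv_eq_one, mul_comm]; exact h3

/-- The torus element of exponents and a unit. -/
theorem tor_elem (l : Fin chevE6.rank → ℤ) (u : Kˣ) :
    torus chevE6 tb K (hPar chevE6 K (parVec φ l u)) ∈ twistGrp sym_test φ :=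
  torus_fixPar_mem CfsgLib.Chev.E6.checked sym_test φ Twisted.E6.orbit_ok Twisted.E6.sym_nodeTest
    Twisted.E6.sym_bnTest (parVec_fixed φ hq hK h2 hφ l u)

omit hq hK h2 hφ in
theorem orbX_eq_one {r : ℕ} (hr : r ∈ sym.repList) {s : K} (h : orbX sym_test φ r s = 1) : s = 0 := by
  have hc := CfsgLib.Chev.E6.checked
  obtain ⟨hrn, hrp⟩ := mem_repList hr
  have ho : 0 < sym.olen r := by
    rcases Twisted.E6.olen_rep r hr with e | e <;> omega
  obtain ⟨j, hj⟩ := exists_cv_ne_zero hc K hrn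
  have h1 := lead_orbX hc sym_test Twisted.E6.orbit_ok φ hr (h := hgt chevE6 tb r) rfl hr ho
    (s := r) rfl rfl s j
  rw [h, lead_one hc hrn, if_pos rfl] at h1
  simp [TwistSym.sgnIter] at h1
  exact h1.resolve_left hj

theorem fpf_of_mover (l : Fin chevE6.rank → ℤ) (u : Kˣ) (j : Fin 24)
    (hne : chi (hPar chevE6 K (parVec φ l u)) (rv chevE6 tb (rootAt j)) ≠ 1) :
    Fpf (⟨_, tor_elem φ hq hK h2 hφ l u⟩ : ↥(twistGrp sym_test φ)) (Xi φ j) := by
  intro x hx e
  have hc := CfsgLib.Chev.E6.checked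
  obtain ⟨s, hs, hxe⟩ := Subgroup.mem_subgroupOf.1 hx
  obtain ⟨hp, heq⟩ := fixed_orbX_conj hc sym_test φ
    (twistGrp_le_fixed hc sym_test φ (tor_elem φ hq hK h2 hφ l u)) (root_lt j) (root_lt j)
    (torus_conj_elX hc (hPar chevE6 K (parVec φ l u)) (root_lt j)) hs
  have e' := congrArg Subtype.val e
  simp only [Subgroup.coe_mul, Subgroup.coe_inv, hxe] at e'
  rw [heq] at e'
  set c : K := ((chi (hPar chevE6 K (parVec φ l u)) (rv chevE6 tb (rootAt j)) : Kˣ) : K)
  have h0 : orbX sym_test φ (rootAt j) (c * s + -s) = 1 := by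
    rw [← orbX_add hc sym_test φ (root_lt j), ← orbX_inv hc sym_test φ (root_lt j), e', mul_inv_cancel]
  have h1 : (c - 1) * s = 0 := by linear_combination orbX_eq_one φ (root_mem j) h0
  have hs0 : s = 0 := (mul_eq_zero.1 h1).resolve_left (sub_ne_zero.2 fun e1 => hne (Units.ext e1))
  exact Subtype.ext (by rw [hxe, hs0, orbX_zero hc sym_test φ (root_lt j)]; rfl)

theorem centralises (l : Fin chevE6.rank → ℤ) (u : Kˣ) (i : Fin 24)
    (he : chi (hPar chevE6 K (parVec φ l u)) (rv chevE6 tb (rootAt i)) = 1) :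
    ∀ x ∈ Xi φ i, x * (⟨_, tor_elem φ hq hK h2 hφ l u⟩ : ↥(twistGrp sym_test φ)) =
      (⟨_, tor_elem φ hq hK h2 hφ l u⟩ : ↥(twistGrp sym_test φ)) * x := by
  intro x hx
  have hc := CfsgLib.Chev.E6.checked
  obtain ⟨s, hs, hxe⟩ := Subgroup.mem_subgroupOf.1 hx
  obtain ⟨hp, heq⟩ := fixed_orbX_conj hc sym_test φ
    (twistGrp_le_fixed hc sym_test φ (tor_elem φ hq hK h2 hφ l u)) (root_lt i) (root_lt i)
    (torus_conj_elX hc (hPar chevE6 K (parVec φ l u)) (root_lt i)) hs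
  rw [he, Units.val_one, one_mul] at heq
  apply Subtype.ext
  show (x : GL chevE6.Idx K) * torus chevE6 tb K _ = torus chevE6 tb K _ * x
  rw [hxe]
  exact (mul_inv_eq_iff_eq_mul.1 heq).symm

theorem exists_fpf (i : Fin 24) : ∃ t ∈ Tor φ, Fpf t (Xi φ i) := by
  obtain ⟨u, h1, hu2, h3⟩ := exists_unit φ hq hK h2 hφ
  refine ⟨⟨_, tor_elem φ hq hK h2 hφ (lamOf i i) u⟩,
    (mem_diagonal CfsgLib.Chev.E6.checked).2 ⟨_, rfl⟩, fpf_of_mover φ hq hK h2 hφ _ u i ?_⟩
  rw [chi_parVec φ _ u (root_lt i)]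
  exact mover_ne_one φ hq hK h2 hφ h1 hu2 h3 (lam_self i)

theorem exists_pair_torus {i j : Fin 24} (hij : i < j) :
    ∃ t ∈ Tor φ, (∀ x ∈ Xi φ i, x * t = t * x) ∧ Fpf t (Xi φ j) := by
  obtain ⟨u, h1, hu2, h3⟩ := exists_unit φ hq hK h2 hφ
  obtain ⟨e1, e2, e3⟩ := lam_pair i j hij
  refine ⟨⟨_, tor_elem φ hq hK h2 hφ (lamOf i j) u⟩,
    (mem_diagonal CfsgLib.Chev.E6.checked).2 ⟨_, rfl⟩, centralises φ hq hK h2 hφ _ u i ?_,
    fpf_of_mover φ hq hK h2 hφ _ u j ?_⟩
  · rw [chi_parVec φ _ u (root_lt i), e1, e2, zpow_zero, zpow_zero, one_mul]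
  · rw [chi_parVec φ _ u (root_lt j)]
    exact mover_ne_one φ hq hK h2 hφ h1 hu2 h3 e3

/-! ### root subgroups are commutators -/

omit hq hK h2 hφ in
theorem commutator_mul_mul {G : Type*} [Group G] {a b a' b' : G} (h1 : Commute a a')
    (hab : Commute a b') (hba : Commute b a') (h4 : Commute b b') :
    ⁅a * a', b * b'⁆ = ⁅a, b⁆ * ⁅a', b'⁆ := by
  have hc : Commute ((b * a)⁻¹) (a' * b' * (b' * a')⁻¹) :=
    (((hba.mul_left h1).mul_right (h4.mul_left hab)).mul_right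
      (((h4.mul_left hab).mul_right (hba.mul_left h1)).inv_right)).inv_left
  calc ⁅a * a', b * b'⁆ = a * (a' * b) * b' * ((b * (b' * a)) * a')⁻¹ := by
        simp only [commutatorElement_def, mul_inv_rev, mul_assoc]
    _ = a * (b * a') * b' * ((b * (a * b')) * a')⁻¹ := by rw [hba.eq, hab.eq]
    _ = a * b * (a' * b' * (b' * a')⁻¹ * (b * a)⁻¹) := by group
    _ = a * b * ((b * a)⁻¹ * (a' * b' * (b' * a')⁻¹)) := by rw [hc.eq]
    _ = ⁅a, b⁆ * ⁅a', b'⁆ := by simp only [commutatorElement_def, mul_inv_rev, mul_assoc]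

omit hq hK h2 hφ in
theorem commute_orb {x y : ℕ} (h : ∀ x' ∈ [x, sym.img x], ∀ y' ∈ [y, sym.img y], Com x' y')
    (hx : sym.olen x = 1 ∨ sym.olen x = 2) (hy : sym.olen y = 1 ∨ sym.olen y = 2) (s t : K) :
    Commute (orbX sym_test φ x s) (orbX sym_test φ y t) := by
  have hc := CfsgLib.Chev.E6.checked
  have hxl : x < chevE6.nroots := (h x (by simp) y (by simp)).1
  have hyl : y < chevE6.nroots := (h x (by simp) y (by simp)).2.1
  have hmem : ∀ z, sym.olen z = 1 ∨ sym.olen z = 2 → ∀ k < sym.olen z,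
      sym.imgIter k z ∈ [z, sym.img z] := by
    intro z hz k hk
    obtain rfl | rfl : k = 0 ∨ k = 1 := by omega
    · exact List.mem_cons_self
    · exact List.mem_cons_of_mem _ List.mem_cons_self
  unfold orbX
  refine commute_orbProd _ _ _ _ fun k hk => (commute_orbProd _ _ _ _ fun l hl => ?_).symm
  rw [twistSigma_iter_elX hc sym_test φ hyl, twistSigma_iter_elX hc sym_test φ hxl]
  obtain ⟨a, b, c, d⟩ := h _ (hmem x hx l hl) _ (hmem y hy k hk)
  exact (commute_elX hc a b c d _ _).symm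

omit hq hK h2 hφ in
/-- Every element of a root subgroup is a commutator of elements commuting with it. -/
theorem exists_dec (i : Fin 24) {x : ↥(twistGrp sym_test φ)} (hx : x ∈ Xi φ i) :
    ∃ P Q : ↥(twistGrp sym_test φ), x = ⁅P, Q⁆ ∧ ∀ y ∈ Xi φ i, Commute y P ∧ Commute y Q := by
  have hc := CfsgLib.Chev.E6.checked
  obtain ⟨ha, hb, hab, hab', hoa, hob, ⟨C, hC, hterm⟩, hcom, himg⟩ := dec_ok i
  set r := rootAt i
  set a := (decPair i).1
  set b := (decPair i).2
  obtain ⟨s, hs, hxe⟩ := Subgroup.mem_subgroupOf.1 hx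
  have hC2 : (C : K) * C = 1 := by
    simp only [List.mem_cons, List.not_mem_nil, or_false] at hC
    rcases hC with rfl | rfl <;> simp
  have hpa : IsPar sym φ a 1 := isPar_one φ a
  have hpb : IsPar sym φ b (-(C : K) * s) := by
    simp only [IsPar, hob] at hs ⊢
    rw [iterate_map_mul, iterate_map_neg, hs, Function.iterate_fixed (map_intCast φ C)]
  refine ⟨⟨_, inv_mem (orbX_mem hc sym_test φ Twisted.E6.sym_nodeTest hb hpb)⟩,
    ⟨_, inv_mem (orbX_mem hc sym_test φ Twisted.E6.sym_nodeTest ha hpa)⟩, Subtype.ext ?_,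
    fun y hy => ?_⟩
  · rw [hxe]
    set A := elX chevE6 K a 1
    set B := elX chevE6 K b (-(C : K) * s)
    have hkey : ⁅B⁻¹, A⁻¹⁆ = elX chevE6 K r s := by
      have h := elX_comm hc Twisted.E6.comm_one (F := K) ha hb hab hab' 1 (-(C : K) * s)
      rw [ChevalleyDatum.commWord, hterm] at h
      simp only [List.map_cons, List.map_nil, wordGL, List.prod_cons, List.prod_nil, mul_one,
        pow_one] at h
      rw [show (C : K) * -1 * (-(C : K) * s) = s by linear_combination s * hC2] at h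
      rw [commutatorElement_def, inv_inv, inv_inv]
      show B⁻¹ * A⁻¹ * B * A = _
      have hg : ∀ P Q R : GL chevE6.Idx K, Q⁻¹ * P⁻¹ * (P * Q * R) = R := fun P Q R => by group
      rw [mul_assoc (B⁻¹ * A⁻¹), h]
      exact hg _ _ _
    show orbX sym_test φ r s =
      ⁅(orbX sym_test φ b (-(C : K) * s))⁻¹, (orbX sym_test φ a 1)⁻¹⁆
    rcases Twisted.E6.olen_rep r (root_mem i) with h1 | h1
    · simp only [orbX, hoa, hob, h1, orbProd_one]
      exact hkey.symm
    · obtain ⟨hc1, hc2'⟩ := himg.resolve_left (by omega)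
      have horb2 : ∀ (f : GL chevE6.Idx K → GL chevE6.Idx K) g, orbProd f 2 g = g * f g := fun f g => by
        simp [orbProd, List.range_succ]
      simp only [orbX, hoa, hob, h1, horb2]
      set σ := twistSigma sym sym_test φ
      have hAA : Commute A (σ A) := commute_iter_elX (j := 0) (k := 1) hc sym_test φ ha 1 1
        (by omega) (by omega)
      have hBB : Commute B (σ B) := commute_iter_elX (j := 0) (k := 1) hc sym_test φ hb _ _
        (by omega) (by omega)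
      have hBA : Commute B (σ A) := by
        rw [twistSigma_elX hc sym_test φ ha]
        exact (commute_elX hc hc1.1 hc1.2.1 hc1.2.2.1 hc1.2.2.2 _ _).symm
      have hAB : Commute A (σ B) := by
        rw [twistSigma_elX hc sym_test φ hb]
        exact commute_elX hc hc2'.1 hc2'.2.1 hc2'.2.2.1 hc2'.2.2.2 _ _
      rw [hBB.eq, hAA.eq, mul_inv_rev, mul_inv_rev, ← map_inv, ← map_inv,
        commutator_mul_mul (by rw [map_inv]; exact hBB.inv_inv)
          (by rw [map_inv]; exact hBA.inv_inv) (by rw [map_inv]; exact hAB.inv_inv)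
          (by rw [map_inv]; exact hAA.inv_inv),
        hkey, ← map_commutatorElement, hkey]
  · obtain ⟨v, -, hye⟩ := Subgroup.mem_subgroupOf.1 hy
    have hr2 := Twisted.E6.olen_rep r (root_mem i)
    constructor <;> apply Subtype.ext
    · show (y : GL chevE6.Idx K) * (orbX sym_test φ b _)⁻¹ = (orbX sym_test φ b _)⁻¹ * y
      rw [hye]
      exact (commute_orb φ (fun x hx z hz => hcom x hx z (by simp at hz ⊢; tauto)) hr2
        (hob ▸ hr2) v _).inv_right.eq
    · show (y : GL chevE6.Idx K) * (orbX sym_test φ a _)⁻¹ = (orbX sym_test φ a _)⁻¹ * y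
      rw [hye]
      exact (commute_orb φ (fun x hx z hz => hcom x hx z (by simp at hz ⊢; tauto)) hr2
        (hoa ▸ hr2) v _).inv_right.eq

/-! ### the filtration -/

omit hq hK h2 hφ in
theorem mem_highU {i : Fin 24} {h : ℤ} (hh : h ≤ hgt chevE6 tb (rootAt i))
    {x : ↥(twistGrp sym_test φ)} (hx : x ∈ Xi φ i) :
    (x : GL chevE6.Idx K) ∈ highU chevE6 tb K h := by
  obtain ⟨s, -, hxe⟩ := Subgroup.mem_subgroupOf.1 hx
  rw [hxe]
  exact orbX_mem_highU CfsgLib.Chev.E6.checked sym_test Twisted.E6.orbit_ok φ (root_lt i)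
    (mem_repList (root_mem i)).2 hh s

omit hq hK h2 hφ in
theorem hgt_mono {i j : Fin 24} (h : i ≤ j) :
    hgt chevE6 tb (rootAt i) ≤ hgt chevE6 tb (rootAt j) := by
  rw [hgt_eq_hgtC, hgt_eq_hgtC]; exact root_hgt i j h

omit hq hK h2 hφ in
/-- The fixed elements of height at least `h` are generated by the root subgroups of that height. -/
theorem highU_le_span {h : ℤ} (h1 : 1 ≤ h) {x : ↥(twistGrp sym_test φ)}
    (hx : (x : GL chevE6.Idx K) ∈ highU chevE6 tb K h) :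
    x ∈ ⨆ k, ⨆ (_ : h ≤ hgt chevE6 tb (rootAt k)), Xi φ k := by
  have hc := CfsgLib.Chev.E6.checked
  set R : Subgroup ↥(twistGrp sym_test φ) := ⨆ k, ⨆ (_ : h ≤ hgt chevE6 tb (rootAt k)), Xi φ k
  have hgen : repGen sym_test φ tb h chevE6.nroots ≤ R.map (twistGrp sym_test φ).subtype := by
    refine (Subgroup.closure_le _).2 ?_
    rintro g ⟨r, hr, -, hle, t, ht, rfl⟩
    obtain ⟨k, hk⟩ := root_cover r hr
    subst hk
    exact ⟨⟨_, xSub_le_twist setup φ (root_lt k) ⟨t, ht, rfl⟩⟩,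
      mem_iSup_of_mem k (mem_iSup_of_mem hle ⟨t, ht, rfl⟩), rfl⟩
  obtain ⟨y, hy, e⟩ := hgen (highU_fixed_le_repGen hc Twisted.E6.comm_one sym_test Twisted.E6.orbit_ok
    φ h1 (fun e => Nat.lt_irrefl _ (mem_repList e.1).1) ⟨hx, twistGrp_le_fixed hc sym_test φ x.2⟩)
  rwa [show x = y from Subtype.ext e.symm]

omit hq hK h2 hφ in
theorem conj_mem_span {i j : Fin 24} (hij : i < j) {x y : ↥(twistGrp sym_test φ)} (hx : x ∈ Xi φ i)
    (hy : y ∈ Xi φ j) : x * y * x⁻¹ ∈ ⨆ k, ⨆ (_ : i < k), Xi φ k := by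
  have hc := CfsgLib.Chev.E6.checked
  have hH := TwistSym.htPos Twisted.E6.orbit_ok
  have h1 : 1 ≤ hgt chevE6 tb (rootAt i) := hH _ (root_lt i) (mem_repList (root_mem i)).2
  have hxU := mem_highU φ le_rfl hx
  have hyU := mem_highU φ (hgt_mono hij.le) hy
  have hlead : ∀ g ∈ highU chevE6 tb K (hgt chevE6 tb (rootAt i)), ∀ r, ∀ hr : r < chevE6.nroots,
      hgt chevE6 tb r = hgt chevE6 tb (rootAt i) → ∀ j', lead g⁻¹ r j' = -lead g r j' := by
    intro g hg r hr hh j'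
    have h := lead_mul hc h1 hg (inv_mem hg) hr hh j'
    rw [mul_inv_cancel, lead_one hc hr] at h
    linear_combination -h
  have hmem : ((x * y * x⁻¹ * y⁻¹ : ↥(twistGrp sym_test φ)) : GL chevE6.Idx K) ∈
      highU chevE6 tb K (hgt chevE6 tb (rootAt i) + 1) := by
    simp only [Subgroup.coe_mul, Subgroup.coe_inv]
    refine mem_highU_succ hc Twisted.E6.comm_one hH h1
      (mul_mem (mul_mem (mul_mem hxU hyU) (inv_mem hxU)) (inv_mem hyU)) fun r hr _ hh j' => ?_
    rw [lead_mul hc h1 (mul_mem (mul_mem hxU hyU) (inv_mem hxU)) (inv_mem hyU) hr hh,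
      lead_mul hc h1 (mul_mem hxU hyU) (inv_mem hxU) hr hh, lead_mul hc h1 hxU hyU hr hh,
      hlead _ hxU r hr hh, hlead _ hyU r hr hh]
    ring
  have hle : (⨆ k, ⨆ (_ : hgt chevE6 tb (rootAt i) + 1 ≤ hgt chevE6 tb (rootAt k)), Xi φ k) ≤
      ⨆ k, ⨆ (_ : i < k), Xi φ k := iSup₂_le fun k hk =>
    le_iSup₂_of_le k (lt_of_not_ge fun hki => by have := hgt_mono hki; omega) le_rfl
  rw [show x * y * x⁻¹ = (x * y * x⁻¹ * y⁻¹) * y by group]
  exact mul_mem (hle (highU_le_span φ (by omega) hmem)) (mem_iSup_of_mem j (mem_iSup_of_mem hij hy))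

/-! ### the criterion -/

omit hφ in
theorem card_Xi_le (i : Fin 24) (hφ : ∀ x, φ x = x ^ q) :
    Nat.card (Xi φ i) ≤ q ^ sym.olen (rootAt i) := by
  rw [← Twisted.E6.card_par hq hK φ hφ _ (root_mem i)]
  refine Nat.card_le_card_of_surjective
    (fun t : {t : K // IsPar sym φ (rootAt i) t} =>
      (⟨⟨_, xSub_le_twist setup φ (root_lt i) ⟨t.1, t.2, rfl⟩⟩, ⟨t.1, t.2, rfl⟩⟩ : Xi φ i)) ?_
  rintro ⟨x, hx⟩
  obtain ⟨s, hs, hxe⟩ := Subgroup.mem_subgroupOf.1 hx
  exact ⟨⟨s, hs⟩, Subtype.ext (Subtype.ext hxe.symm)⟩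

/-- The kernel of a stem extension has order prime to the characteristic. -/
theorem not_dvd_card_ker {p : ℕ} [Fact p.Prime] (hpq : p ∣ q) {Γ : Type*} [Group Γ] [Finite Γ]
    (σ : Γ →* ↥(twistGrp sym_test φ)) (hs : Function.Surjective σ) (hc : σ.ker ≤ center Γ)
    (hd : σ.ker ≤ _root_.commutator Γ) : ¬ p ∣ Nat.card σ.ker := by
  have hchk := CfsgLib.Chev.E6.checked
  have hp : p.Prime := Fact.out
  have hgood : ∀ i, Good σ (Tor φ) (Xi φ i) := by
    intro i
    obtain ⟨t, ht, hf⟩ := exists_fpf φ hq hK h2 hφ i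
    refine D4Schur.good_of_abelian hs hc ht (fun s hs' => Tor_comm φ hs' ht) (norms_Xi φ i) hf
      fun A B hA hB => ?_
    obtain ⟨P, Q, e, hcomm⟩ := exists_dec φ i hB
    obtain ⟨P', rfl⟩ := hs P
    obtain ⟨Q', rfl⟩ := hs Q
    have hz : ⁅P', Q'⁆⁻¹ * B ∈ center Γ := hc (by
      rw [MonoidHom.mem_ker, map_mul, map_inv, map_commutatorElement, ← e, inv_mul_cancel])
    have h1 : A * ⁅P', Q'⁆ * A⁻¹ = ⁅P', Q'⁆ := by
      rw [conjugate_commutatorElement]
      refine SchurTrivial.comm_congr hc ?_ ?_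
      · rw [map_mul, map_mul, map_inv, (hcomm _ hA).1.eq, mul_inv_cancel_right]
      · rw [map_mul, map_mul, map_inv, (hcomm _ hA).2.eq, mul_inv_cancel_right]
    calc A * B = A * ⁅P', Q'⁆ * A⁻¹ * (A * (⁅P', Q'⁆⁻¹ * B)) := by group
      _ = ⁅P', Q'⁆ * ((⁅P', Q'⁆⁻¹ * B) * A) := by rw [h1, mem_center_iff.1 hz A]
      _ = B * A := by group
  obtain ⟨V, hVcard, hV⟩ := D4Schur.exists_section (σ := σ) (T := Tor φ) hs hc (fun i => Xi φ i)
    (norms_Xi φ) hgood (exists_fpf φ hq hK h2 hφ) fun i j hij => by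
      obtain ⟨t, ht, hcen, hf⟩ := exists_pair_torus φ hq hK h2 hφ hij
      exact Or.inr ⟨t, ht, hcen, hf, fun x hx y hy => conj_mem_span φ hij hx hy⟩
  -- the unipotent subgroup is a Sylow subgroup
  set U : Subgroup ↥(twistGrp sym_test φ) := (chevE6.posUnipotent K).subgroupOf (twistGrp sym_test φ)
  have hUcard : Nat.card U = q ^ 36 := by
    rw [← Twisted.E6.card_unipotent hq hK, Twisted.E6.twistedE6_eq hK φ hφ]
    show Nat.card ↥((chevE6.posUnipotent K).subgroupOf (twistGrp sym_test φ)) = _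
    rw [← inf_subgroupOf_right]
    exact Nat.card_congr (subgroupOfEquivOfLe inf_le_right).toEquiv
  have hUV : U ≤ ⨆ i, Xi φ i := fun x hx =>
    (iSup₂_le fun k _ => le_iSup (fun k => Xi φ k) k) (highU_le_span φ le_rfl (by
      rw [highU_one hchk (TwistSym.htPos Twisted.E6.orbit_ok)]; exact hx))
  obtain ⟨p₀, a, hp₀, ha, hqe⟩ := (isPrimePow_nat_iff q).1 hq
  have hpe : p = p₀ := (Nat.prime_dvd_prime_iff_eq hp hp₀).1 (hp.dvd_of_dvd_pow (hqe ▸ hpq))
  subst hpe
  have hUp : IsPGroup p U := IsPGroup.of_card (n := a * 36) (by rw [hUcard, ← hqe, ← pow_mul])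
  obtain ⟨Q, hUQ⟩ := hUp.exists_le_sylow
  have hQ : Nat.card (Q : Subgroup ↥(twistGrp sym_test φ)) ∣ q ^ 36 := by
    have hord := Twisted.E6.card_group_twisted (K := K) hq hK
    rw [Twisted.E6.twistedE6_eq hK φ hφ] at hord
    have h1 : Nat.card (Q : Subgroup ↥(twistGrp sym_test φ)) ∣
        Nat.gcd 3 (q + 1) * Nat.card ↥(twistGrp sym_test φ) :=
      (Subgroup.card_subgroup_dvd_card _).mul_left _
    rw [hord] at h1
    simp only [mul_assoc] at h1
    refine (Nat.Coprime.dvd_of_dvd_mul_right ?_ h1)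
    obtain ⟨k, hk⟩ := IsPGroup.iff_card.1 Q.2
    rw [hk]
    refine Nat.Coprime.pow_left _ ((hp.coprime_iff_not_dvd).2 fun hdvd => ?_)
    rw [← ZMod.natCast_eq_zero_iff] at hdvd
    have hq0 : ((q : ℕ) : ZMod p) = 0 := (ZMod.natCast_eq_zero_iff _ _).2 hpq
    have hq1 : ∀ n, 1 ≤ q ^ n := fun n => Nat.one_le_pow _ _ hq.pos
    push_cast [Nat.cast_sub (hq1 _), hq0] at hdvd
    simp at hdvd
  refine D4Schur.not_dvd_of_section hs hc hd Q V ?_ ?_
  · have hcardQ : Nat.card (Q : Subgroup ↥(twistGrp sym_test φ)) ≤ Nat.card U := by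
      rw [hUcard]; exact Nat.le_of_dvd (pow_pos hq.pos _) hQ
    rw [← Subgroup.eq_of_le_of_card_ge hUQ hcardQ]
    exact hUV.trans hV
  · refine hVcard.trans ((Finset.prod_le_prod' fun i _ => card_Xi_le φ hq hK h2 i hφ).trans ?_)
    rw [Finset.prod_pow_eq_pow_sum, root_weight, ← hUcard]
    exact Subgroup.card_le_of_le hUQ

end CfsgLib.E6Schur
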