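import Cfsg.Agent.Lib.E6Schur.TwistBound
import Cfsg.Agent.Lib.E6Schur.PPart
import Cfsg.Agent.Lib.E6Schur.Cover
import Cfsg.Agent.Lib.SLCover.Universal
import Cfsg.Agent.Lib.Schur.Multiplier

/-!
The Schur multiplier of the twisted group of type E6 is cyclic of order gcd(3, q + 1), for q ≠ 2.
-/

set_option autoImplicit false
set_option linter.unusedSectionVars false

universe u

namespace CfsgLib.E6Schur

open Cfsg.Lie CfsgLib.Chev CfsgLib.Chevalley CfsgLib.Twisted CfsgLib.TwistCover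
open CfsgLib.Twisted.E6 (sym sym_test tb)
open scoped commutatorElement

/-- The orbit of every node misses a node whose coordinate determines the kernel element. -/
theorem node_out : ∀ i : Fin chevE6.rank, i.1 ∈ sym.repNodes → ∃ k : Fin chevE6.rank,
    Twisted.E6.kExp k % 3 ≠ 0 ∧ ∀ j < sym.olen (chevE6.simple i.1), iterNode sym_test j i ≠ k := by
  decide +kernel

theorem nodeInj {K : Type*} [Field K] [Fintype K] (φ : K ≃+* K) : NodeInj setup φ := by
  intro i s h
  obtain ⟨k, hk, hout⟩ := node_out i.1 i.2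
  set a : Kˣ := Units.map (parField sym φ (chevE6.simple i.1.1)).subtype s
  set c := orbPar sym_test φ i.1 a
  have hck : c k = 1 := by
    simp only [c]
    unfold orbPar
    rw [Finset.prod_apply]
    refine Finset.prod_eq_one fun j hj => ?_
    rw [iterate_tauPar_single]
    exact Pi.mulSingle_eq_of_ne (fun e => hout j (Finset.mem_range.1 hj) e.symm) _
  set o : Fin chevE6.rank := ⟨0, by decide⟩
  have hz : ∀ l, c l = c o ^ ((Twisted.E6.kExp l : ℕ) : ℤ) := fun l =>
    ker_eq_zpow o (fun k => ((Twisted.E6.kExp k : ℕ) : ℤ)) Twisted.E6.kCert Twisted.E6.kCert_ok h l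
  have hc0 : c o = 1 := by
    have h3 : c o ^ 3 = 1 := congrFun (Twisted.E6.ker_cube h) o
    have e := (hz k).symm.trans hck
    rw [zpow_natCast] at e
    exact orderOf_eq_one_iff.1 (Nat.eq_one_of_dvd_coprimes
      ((Nat.prime_three.coprime_iff_not_dvd).2 fun hd => hk (Nat.mod_eq_zero_of_dvd hd))
      (orderOf_dvd_of_pow_eq_one h3) (orderOf_dvd_of_pow_eq_one e))
  have hi : c i.1 = a := by
    simp only [c]
    rw [orbPar_self setup φ i i, if_pos rfl]
  have : a = 1 := by rw [← hi, hz, hc0, one_zpow]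
  exact Units.ext (Subtype.ext (congrArg Units.val this))

theorem perfect_of_stem {Γ G : Type*} [Group Γ] [Group G] (σ : Γ →* G) (hs : Function.Surjective σ)
    (hd : σ.ker ≤ commutator Γ) (hG : commutator G = ⊤) : commutator Γ = ⊤ := by
  refine eq_top_iff.2 fun g _ => ?_
  obtain ⟨d, hd', e⟩ : σ g ∈ (commutator Γ).map σ := by
    rw [commutator_def, Subgroup.map_commutator, Subgroup.map_top_of_surjective σ hs, ← commutator_def,
      hG]
    exact Subgroup.mem_top _
  have h1 : d⁻¹ * g ∈ σ.ker := by rw [MonoidHom.mem_ker, map_mul, map_inv, e, inv_mul_cancel]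
  simpa using mul_mem hd' (hd h1)

theorem central_of_perfect {E : Type*} [Group E] (hE : commutator E = ⊤) {z : E}
    (h : ∀ x : E, ⁅x, z⁆ ∈ Subgroup.center E) : z ∈ Subgroup.center E := by
  let f : E →* Subgroup.center E := MonoidHom.mk' (fun x => ⟨⁅x, z⁆, h x⟩) fun x y => Subtype.ext (by
    show ⁅x * y, z⁆ = ⁅x, z⁆ * ⁅y, z⁆
    have e : ⁅x * y, z⁆ = x * ⁅y, z⁆ * x⁻¹ * ⁅x, z⁆ := by simp only [commutatorElement_def]; group
    rw [e, Subgroup.mem_center_iff.1 (h y) x, mul_inv_cancel_right, Subgroup.mem_center_iff.1 (h x)])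
  have hker : f.ker = ⊤ := by
    rw [eq_top_iff, ← hE, commutator_def, Subgroup.commutator_le]
    intro a _ b _
    rw [MonoidHom.mem_ker, map_commutatorElement, commutatorElement_eq_one_iff_mul_comm]
    exact Subtype.ext (Subgroup.mem_center_iff.1 (f b).2 (f a))
  rw [Subgroup.mem_center_iff]
  intro x
  have : f x = 1 := by rw [← MonoidHom.mem_ker, hker]; exact Subgroup.mem_top x
  exact commutatorElement_eq_one_iff_mul_comm.1 (congrArg Subtype.val this)

theorem card_ker_le' {K : Type*} [Field K] [Fintype K] {q : ℕ} (hq : IsPrimePow q)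
    (hK : Fintype.card K = q ^ 2) (h2 : q ≠ 2) (φ : K ≃+* K) (hφ : ∀ x, φ x = x ^ q)
    {Γ : Type*} [Group Γ] [Finite Γ] (σ : Γ →* ↥(twistGrp sym_test φ)) (hs : Function.Surjective σ)
    (hc : σ.ker ≤ Subgroup.center Γ) (hperf : commutator Γ = ⊤) :
    Nat.card σ.ker ≤ Nat.gcd 3 (q + 1) := by
  obtain ⟨p, n, hp, hn, hqp⟩ := (isPrimePow_nat_iff q).1 hq
  haveI := Fact.mk hp
  haveI : CharP K p := charP_of_card_eq_prime_pow (f := n * 2) (by rw [hK, ← hqp, ← pow_mul])
  have hco : ¬ p ∣ Nat.card σ.ker := not_dvd_card_ker φ hq hK h2 hφ (hqp ▸ dvd_pow_self p hn.ne') σ hs hc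
    (hperf ▸ le_top)
  refine (E6Schur.card_ker_le setup φ (nodeInj φ) rfl σ hs hc hco hperf).trans ?_
  rw [← Twisted.E6.card_fixed_ker hK φ hφ]
  exact (Nat.card_congr (Equiv.subtypeEquivRight fun c => by rw [mem_fixPar])).le

theorem hasSchurMultiplier {K : Type u} [Field K] [Fintype K] {q : ℕ} (hq : IsPrimePow q)
    (hK : Fintype.card K = q ^ 2) (h2 : q ≠ 2) (φ : K ≃+* K) (hφ : ∀ x, φ x = x ^ q) :
    Cfsg.HasCyclicSchurMultiplier ↥(twistGrp sym_test φ) (Nat.gcd 3 (q + 1)) := by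
  have hG : commutator ↥(twistGrp sym_test φ) = ⊤ := by
    have := Twisted.E6.perfect (K := K) hq hK
    rwa [Twisted.E6.twistedE6_eq hK φ hφ] at this
  rcases (Nat.dvd_prime Nat.prime_three).1 (Nat.gcd_dvd_left 3 (q + 1)) with hg | hg
  · rw [hg]
    refine CfsgLib.Schur.hasCyclic_one_of_forall fun Γ _ _ σ ⟨hs, hc, hd⟩ => ?_
    refine Subgroup.eq_bot_of_card_le _ ?_
    rw [← hg]
    exact card_ker_le' hq hK h2 φ hφ σ hs hc (perfect_of_stem σ hs hd hG)
  · rw [hg]
    have h3 : 3 ∣ q + 1 := hg ▸ Nat.gcd_dvd_right _ _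
    obtain ⟨Γ₀, _, _, π, hπs, hπc, hπp, hπk⟩ := exists_perfect_cover hq hK φ hφ h3
    haveI : Fact (Nat.Prime 3) := ⟨Nat.prime_three⟩
    haveI : IsCyclic π.ker := isCyclic_of_prime_card hπk
    show Cfsg.HasSchurMultiplier _ (Multiplicative (ZMod 3))
    refine CfsgLib.SLCover.hasSchurMultiplier_of_closed π hπs hπc hπp (fun E _ _ p hp hpc hE => ?_)
      (mulEquivOfCyclicCardEq (by rw [hπk, Nat.card_congr Multiplicative.toAdd, Nat.card_zmod]))
    have hcen : (π.comp p).ker ≤ Subgroup.center E := fun z hz => central_of_perfect hE fun x => hpc (by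
      rw [MonoidHom.mem_ker, map_commutatorElement, commutatorElement_eq_one_iff_mul_comm]
      exact Subgroup.mem_center_iff.1 (hπc hz) (p x))
    have hle := card_ker_le' hq hK h2 φ hφ (π.comp p) (hπs.comp hp) hcen hE
    rw [hg, ← hπk] at hle
    rw [injective_iff_map_eq_one]
    intro x hx
    let f : (π.comp p).ker → π.ker := fun z => ⟨p z, z.2⟩
    have hf : Function.Surjective f := fun y => by
      obtain ⟨z, hz⟩ := hp y
      exact ⟨⟨z, show π (p z) = 1 by rw [hz]; exact y.2⟩, Subtype.ext hz⟩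
    have hb := (Nat.bijective_iff_surjective_and_card f).2
      ⟨hf, le_antisymm hle (Nat.card_le_card_of_surjective f hf)⟩
    exact congrArg Subtype.val (hb.1 (a₁ := ⟨x, show π (p x) = 1 by rw [hx, map_one]⟩) (a₂ := 1)
      (Subtype.ext (by simpa [f] using hx)))

end CfsgLib.E6Schur
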