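import Cfsg.Agent.Lib.E6Schur.KerBound
import Cfsg.Agent.Lib.TwistCover.Twisted

/-!
Perfect central extensions of twisted groups with kernel of order prime to the characteristic: the
kernel is bounded by the fixed parameters in the kernel of the diagonal map.  Variant of
`Lib.TwistCover.Twisted` (helper16) for the adjoint groups.
-/

set_option autoImplicit false
set_option linter.unusedSectionVars false

namespace CfsgLib.E6Schur

open Cfsg.Lie CfsgLib.Chev CfsgLib.Chevalley CfsgLib.Twisted CfsgLib.SteinbergTwo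
open CfsgLib.TwistCover
open scoped MatrixGroups

variable {D : ChevalleyDatum} {T : Tabs} {S : TwistSym D} {H : List ℤ} {words : List (List ℕ)}
  (W : Setup D T S H words) {K : Type*} [Field K] (φ : K ≃+* K)

/-- `hker1`: the torus of one node meets the kernel of the diagonal map trivially. -/
abbrev NodeInj : Prop := ∀ (i : Node S) (s : (parField S φ (D.simple i.1.1))ˣ),
  hPar D K (orbPar W.hS φ i.1 (Units.map (parField S φ (D.simple i.1.1)).subtype s)) = 1 → s = 1

include W

theorem hParam_injective (hker1 : NodeInj W φ) (i : Node S) : Function.Injective (hParam W φ i) := by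
  rw [injective_iff_map_eq_one]
  intro s h
  refine hker1 i s (torus_injective (T := T) W.hc (F := K) ?_)
  rw [map_one]
  exact h

theorem orbPar_one (i : Node S) : orbPar W.hS φ i.1 (1 : Kˣ) = 1 :=
  Finset.prod_eq_one fun k _ => by rw [Pi.mulSingle_one, iterate_map_one]

theorem orbPar_mul (i : Node S) (a b : Kˣ) :
    orbPar W.hS φ i.1 (a * b) = orbPar W.hS φ i.1 a * orbPar W.hS φ i.1 b := by
  unfold orbPar
  rw [← Finset.prod_mul_distrib]
  exact Finset.prod_congr rfl fun k _ => by rw [Pi.mulSingle_mul, iterate_map_mul]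

/-- The fixed parameters given by the values at the nodes. -/
noncomputable def nodeParHom [Fintype (Node S)] :
    (∀ i : Node S, (parField S φ (D.simple i.1.1))ˣ) →* (Fin D.rank → Kˣ) :=
  MonoidHom.mk' (fun s => ∏ i : Node S,
      orbPar W.hS φ i.1 (Units.map (parField S φ (D.simple i.1.1)).subtype (s i))) fun s t => by
    rw [← Finset.prod_mul_distrib]
    exact Finset.prod_congr rfl fun i _ => by rw [Pi.mul_apply, map_mul, orbPar_mul W φ]

theorem nodeParHom_fixed [Fintype (Node S)] (s : ∀ i : Node S, (parField S φ (D.simple i.1.1))ˣ) :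
    nodeParHom W φ s ∈ fixPar W.hS φ :=
  Subgroup.prod_mem _ fun i _ => TwistCover.orbPar_fixed W φ i (s i)

theorem nodeParHom_apply [Fintype (Node S)] (s : ∀ i : Node S, (parField S φ (D.simple i.1.1))ˣ)
    (j : Node S) :
    nodeParHom W φ s j.1 = Units.map (parField S φ (D.simple j.1.1)).subtype (s j) := by
  show (∏ i : Node S, orbPar W.hS φ i.1 _) j.1 = _
  rw [Finset.prod_apply, Finset.prod_eq_single j
    (fun i _ hij => by rw [orbPar_self W φ i j, if_neg hij.symm])
    (fun hn => absurd (Finset.mem_univ j) hn), orbPar_self W φ j j, if_pos rfl]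

theorem nodeParHom_single [Fintype (Node S)] [DecidableEq (Node S)] (i : Node S)
    (x : (parField S φ (D.simple i.1.1))ˣ) :
    nodeParHom W φ (Pi.mulSingle i x) =
      orbPar W.hS φ i.1 (Units.map (parField S φ (D.simple i.1.1)).subtype x) := by
  show (∏ l : Node S, orbPar W.hS φ l.1 _) = _
  rw [Finset.prod_eq_single i
    (fun l _ hl => by rw [Pi.mulSingle_eq_of_ne hl, map_one, orbPar_one W φ])
    (fun hn => absurd (Finset.mem_univ i) hn), Pi.mulSingle_eq_same]

variable (hker1 : NodeInj W φ)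
include hker1

theorem nOrb_not_borel (i : Node S) : nOrb W.hS φ i.1.1 ∉ D.borelSubgroup K := by
  intro hb
  obtain ⟨ρ, hρ⟩ := exists_rootPerm W.hc (K := K)
  have hd := borel_inf_monomial W.hc hb (nOrb_mem_monomial W.hc W.hS φ i.1.2)
  have h1 := (rootPerm_ker W.hc hρ ⟨_, nOrb_mem_monomial W.hc W.hS φ i.1.2⟩).2 hd
  rw [rootPerm_nOrb W φ hρ] at h1
  have h2 : S.wO i.1.1 (D.simple i.1.1) = D.simple i.1.1 := congrArg
    (fun π : Equiv.Perm (Fin D.nroots) => (π ⟨D.simple i.1.1, simple_lt W.hc i.1.2⟩).1) h1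
  rw [TwistSym.wO_simple W.hN i.1.2] at h2
  have := neg_eq W.hc (simple_lt W.hc i.1.2)
  have := half_le_simple W.hc i.1.2
  have := nroots_eq_two_mul W.hc
  have := simple_lt W.hc i.1.2
  omega

omit W hker1 in
/-- Elements of `SL(2)` in normal form. -/
theorem sl2_normal_form (F : Type*) [Field F] (g : SL(2, F)) :
    (∃ a : F, ∃ s : Fˣ, g = img F (true, a) * hWord (fun b t => img F (b, t)) (s : F)) ∨
      ∃ a : F, ∃ s : Fˣ, ∃ b : F, g = img F (true, a) * hWord (fun b t => img F (b, t)) (s : F) *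
        wWord (fun b t => img F (b, t)) true 1 * img F (true, b) := by
  classical
  have himgH : ∀ t : F, t ≠ 0 →
      ((hWord (fun b t => img F (b, t)) t : SL(2, F)) : Matrix (Fin 2) (Fin 2) F) =
        !![t, 0; 0, t⁻¹] := fun t ht => by
    rw [hWord, Matrix.SpecialLinearGroup.coe_mul, img_wWord F true ht,
      img_wWord F true (neg_ne_zero.2 one_ne_zero)]
    simp
  have hg : g ∈ Subgroup.closure {g : SL(2, F) | ∃ b t, g = img F (b, t)} := by
    rw [CfsgLib.ChevSL2.closure_img]; trivial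
  obtain ⟨a, t, ht, h | ⟨b, h⟩⟩ := CfsgLib.ChevSL2.normal_form_of_mul (CfsgLib.ChevSL2.rel_img F)
    (fun t u ht hu => Subtype.ext (by
      rw [Matrix.SpecialLinearGroup.coe_mul, himgH t ht, himgH u hu, himgH _ (mul_ne_zero ht hu)]
      simp [mul_comm])) hg
  · exact Or.inl ⟨a, Units.mk0 t ht, h⟩
  · exact Or.inr ⟨a, Units.mk0 t ht, b, h⟩

/-- The rank one subgroup of a node: injectivity and its diagonal part. -/
theorem orbit_hom_spec (i : Node S) :
    ∃ ι : SL(2, parField S φ (D.simple i.1.1)) →* GL D.Idx K, Function.Injective ι ∧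
      ι.range ≤ twistGrp W.hS φ ∧
      ι.range = xSub W φ (simple_lt W.hc i.1.2) ⊔ xSub W φ (neg_lt W.hc (simple_lt W.hc i.1.2)) ∧
      ι.range ⊓ D.diagonalSubgroup K ≤ (hParam W φ i).range := by
  classical
  obtain ⟨ι, himg, hh⟩ := exists_orbit_hom W φ i
  have hp := simple_lt W.hc i.1.2
  have hrange : ι.range = xSub W φ hp ⊔ xSub W φ (neg_lt W.hc hp) := by
    refine le_antisymm ?_ (sup_le ?_ ?_)
    · rw [MonoidHom.range_eq_map, ← CfsgLib.ChevSL2.closure_img (parField S φ (D.simple i.1.1)), MonoidHom.map_closure,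
        Subgroup.closure_le]
      rintro _ ⟨_, ⟨b, t, rfl⟩, rfl⟩
      rw [himg]
      cases b
      · refine Subgroup.mem_sup_right ⟨t, ?_, rfl⟩
        simp only [IsPar]
        rw [TwistSym.olen_neg W.hc W.hS hp]
        exact t.2
      · exact Subgroup.mem_sup_left ⟨t, t.2, rfl⟩
    · rintro _ ⟨t, ht, rfl⟩
      exact ⟨img (parField S φ (D.simple i.1.1)) (true, ⟨t, ht⟩), by rw [himg]; rfl⟩
    · rintro _ ⟨t, ht, rfl⟩
      have ht' : t ∈ (parField S φ (D.simple i.1.1)) := by
        show IsPar S φ (D.simple i.1.1) t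
        simp only [IsPar] at ht ⊢
        rwa [TwistSym.olen_neg W.hc W.hS hp] at ht
      exact ⟨img (parField S φ (D.simple i.1.1)) (false, ⟨t, ht'⟩), by rw [himg]; rfl⟩
  have hnorm := sl2_normal_form (parField S φ (D.simple i.1.1))
  have hw : ι (wWord (fun b t => img (parField S φ (D.simple i.1.1)) (b, t)) true 1) = nOrb W.hS φ i.1.1 := by
    rw [nOrb_eq W.hc W.hS φ W.hN i.1.2]
    simp [wWord, map_mul, himg]
  have hX : ∀ a : (parField S φ (D.simple i.1.1)), ι (img (parField S φ (D.simple i.1.1)) (true, a)) ∈ D.posUnipotent K := fun a => by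
    rw [himg]; exact orbX_mem_pos W.hc W.hS φ W.hO hp (half_le_simple W.hc i.1.2) _
  have hTd : ∀ s : (parField S φ (D.simple i.1.1))ˣ, torus D T K (hPar D K (orbPar W.hS φ i.1 (Units.map (parField S φ (D.simple i.1.1)).subtype s))) ∈
      D.diagonalSubgroup K := fun s => (mem_diagonal W.hc).2 ⟨_, rfl⟩
  have key : ∀ g, ι g ∈ D.diagonalSubgroup K →
      ∃ a : (parField S φ (D.simple i.1.1)), ∃ s : (parField S φ (D.simple i.1.1))ˣ, g = img (parField S φ (D.simple i.1.1)) (true, a) * hWord (fun b t => img (parField S φ (D.simple i.1.1)) (b, t)) (s : (parField S φ (D.simple i.1.1))) ∧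
        ι (img (parField S φ (D.simple i.1.1)) (true, a)) = 1 ∧ ι g = hParam W φ i s := by
    intro g hg
    rcases hnorm g with ⟨a, s, rfl⟩ | ⟨a, s, b, rfl⟩
    · rw [map_mul, hh] at hg
      have h1 : ι (img (parField S φ (D.simple i.1.1)) (true, a)) = 1 :=
        pos_inf_diag W.hc (by have := hX a; rwa [posUnipotent_eq W.hc] at this)
          ((Subgroup.mul_mem_cancel_right _ (hTd s)).1 hg)
      exact ⟨a, s, rfl, h1, by rw [map_mul, h1, one_mul, hh]; rfl⟩
    · exfalso
      apply nOrb_not_borel W φ hker1 i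
      rw [map_mul, map_mul, map_mul, hh, hw] at hg
      have hb : ∀ {x : GL D.Idx K}, x ∈ D.posUnipotent K → x ∈ D.borelSubgroup K := fun hx =>
        Subgroup.mem_sup_left hx
      have hAT := mul_mem (hb (hX a)) (diagonal_le_borel W.hc (hTd s))
      have := mul_mem (mul_mem (inv_mem hAT) (diagonal_le_borel W.hc hg)) (inv_mem (hb (hX b)))
      simpa [mul_assoc] using this
  refine ⟨ι, ?_, ?_, hrange, ?_⟩
  · rw [injective_iff_map_eq_one]
    intro g hg
    obtain ⟨a, s, rfl, ha, hs⟩ := key g (hg ▸ one_mem _)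
    have hs1 : s = 1 := hParam_injective W φ hker1 i
      (by rw [map_one, ← hs, hg])
    have ha0 : (a : K) = 0 := by
      by_contra hne
      rw [himg, if_pos rfl] at ha
      exact orbX_simple_ne_one W.hc W.hS φ W.hO i.2 hne ha
    have h0 : img (parField S φ (D.simple i.1.1)) (true, a) = 1 := by
      rw [show a = 0 from Subtype.ext ha0]
      apply Subtype.ext
      rw [coe_img]
      simp [Matrix.one_fin_two]
    rw [hs1, h0, one_mul, Units.val_one]
    exact (CfsgLib.ChevSL2.rel_img (parField S φ (D.simple i.1.1))).h_one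
  · rw [hrange]
    exact sup_le (xSub_le_twist W φ _) (xSub_le_twist W φ _)
  · rintro _ ⟨⟨g, rfl⟩, hg⟩
    obtain ⟨a, s, -, -, hs⟩ := key g hg
    exact ⟨s, hs.symm⟩

/-- The data of the twisted group. -/
theorem card_ker_le [Fintype K] {p : ℕ} [Fact p.Prime] [CharP K p] {G : Subgroup (GL D.Idx K)}
    (hG : G = twistGrp W.hS φ) {Γ : Type*} [Group Γ] [Finite Γ] (σ : Γ →* ↥G)
    (hs : Function.Surjective σ) (hc : σ.ker ≤ Subgroup.center Γ) (hco : ¬ p ∣ Nat.card σ.ker)
    (hperf : commutator Γ = ⊤) :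
    Nat.card σ.ker ≤ Nat.card {c : Fin D.rank → Kˣ // c ∈ fixPar W.hS φ ∧ hPar D K c = 1} := by
  classical
  subst hG
  have hhalf : ∀ r : Fin D.nroots, D.nroots / 2 ≤ D.neg r.1 ↔ ¬ D.nroots / 2 ≤ r.1 := fun r => by
    have := neg_eq W.hc r.2
    have := nroots_eq_two_mul W.hc
    have := r.2
    omega
  have hUle : D.posUnipotent K ≤ D.borelSubgroup K := le_sup_left
  have hnmem : ∀ i : Node S, nOrb W.hS φ i.1.1 ∈ (twistGrp W.hS φ) := fun i => nOrb_mem W.hc W.hS φ W.hN i.1.2
  let nG : Node S → ↥(twistGrp W.hS φ) := fun i => ⟨nOrb W.hS φ i.1.1, hnmem i⟩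
  have hnG : ∀ v : List (Node S),
      ((v.map nG).prod : GL D.Idx K) = (v.map fun i : Node S => nOrb W.hS φ i.1.1).prod := fun v => by
    rw [SubmonoidClass.coe_list_prod, List.map_map]; rfl
  have hdiag_conj : ∀ {h : GL D.Idx K}, h ∈ D.diagonalSubgroup K → ∀ u ∈ D.posUnipotent K,
      h * u * h⁻¹ ∈ D.posUnipotent K := by
    intro h hh u hu
    rw [posUnipotent_eq W.hc] at hu ⊢
    exact diag_conj_mem W.hc _ hh hu
  have hrank1 : ∀ (i : Node S) (x : GL D.Idx K), x ∈ xSub W φ (simple_lt W.hc i.1.2) →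
      (∃ y ∈ xSub W φ (simple_lt W.hc i.1.2), ∃ h ∈ D.diagonalSubgroup K ⊓ (twistGrp W.hS φ),
        nOrb W.hS φ i.1.1 * x * nOrb W.hS φ i.1.1 = y * h) ∨
      ∃ y ∈ xSub W φ (simple_lt W.hc i.1.2), ∃ h ∈ D.diagonalSubgroup K ⊓ (twistGrp W.hS φ),
        ∃ y' ∈ xSub W φ (simple_lt W.hc i.1.2),
          nOrb W.hS φ i.1.1 * x * nOrb W.hS φ i.1.1 = y * h * nOrb W.hS φ i.1.1 * y' := by
    intro i x hx
    obtain ⟨t, ht, rfl⟩ := hx
    have hp := simple_lt W.hc i.1.2
    set n := nOrb W.hS φ i.1.1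
    have hsq : n * n ∈ D.diagonalSubgroup K ⊓ (twistGrp W.hS φ) := nOrb_sq W.hc W.hS φ W.hN i.1.2
    obtain ⟨b, hb, -, hsx⟩ := nOrb_conj_simple W.hc W.hS φ W.hN W.hT i.1.2 ht
    have e : n * orbX W.hS φ (D.simple i.1.1) t * n =
        orbX W.hS φ (D.neg (D.simple i.1.1)) b * (n * n) := by rw [← hsx]; simp only [n]; group
    by_cases hb0 : b = 0
    · left
      refine ⟨1, one_mem _, n * n, hsq, ?_⟩
      rw [e, hb0, orbX_zero W.hc W.hS φ (neg_lt W.hc hp)]
    · right
      obtain ⟨a, ha, k, hk, hrk⟩ := rank_one W.hc W.hS φ W.hN i.1.2 hb hb0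
      refine ⟨orbX W.hS φ (D.simple i.1.1) a, ⟨a, ha, rfl⟩, k * (n * n), mul_mem hk hsq,
        (n * n)⁻¹ * orbX W.hS φ (D.simple i.1.1) a * ((n * n)⁻¹)⁻¹,
        diag_conj_xSub W φ (inv_mem hsq.1) (inv_mem hsq.2) hp ⟨a, ha, rfl⟩, ?_⟩
      rw [e, hrk]
      simp [n, mul_assoc]
  let DD : Data p ↥(twistGrp W.hS φ) (Node S) (Fin D.nroots) :=
    { a := fun i => ⟨D.simple i.1.1, simple_lt W.hc i.1.2⟩
      neg := fun r => ⟨D.neg r.1, neg_lt W.hc r.2⟩
      pos := fun r => D.nroots / 2 ≤ r.1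
      w := wPerm W
      X := fun r => (xSub W φ r.2).subgroupOf (twistGrp W.hS φ)
      U := (D.posUnipotent K).subgroupOf (twistGrp W.hS φ)
      H := (D.diagonalSubgroup K).subgroupOf (twistGrp W.hS φ)
      n := nG
      neg_neg := fun r => Fin.ext (neg_neg_root W.hc r.2)
      pos_neg := hhalf
      pos_a := fun i => half_le_simple W.hc i.1.2
      w_neg := fun i r => Fin.ext (TwistSym.wO_spec W.hN i.1.2 r.2).2.2
      w_a := fun i => Fin.ext (TwistSym.wO_simple W.hN i.1.2)
      w_sq := fun i r => Fin.ext (TwistSym.wO_spec W.hN i.1.2 r.2).2.1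
      w_flip := fun i r hp hn => by
        obtain ⟨k, h1, h2⟩ := flip_root W i.2 r.2 hp hn
        have hs := simple_lt W.hc i.1.2
        exact ⟨by rw [xSub_congr W φ r.2 (TwistSym.imgIter_lt W.hS hs k) h1, xSub_imgIter W φ hs k],
          by rw [xSub_congr W φ (neg_lt W.hc r.2)
            (TwistSym.imgIter_lt W.hS (neg_lt W.hc hs) k) h2, xSub_imgIter W φ (neg_lt W.hc hs) k]⟩
      conj_X := fun i r x hx => by
        rw [Subgroup.mem_subgroupOf] at hx ⊢
        exact nOrb_conj_xSub W φ i.1.2 r.2 hx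
      isP := fun g => by
        obtain ⟨k, hk⟩ := isPGroup_pos W.hc p (F := K)
          ⟨g.1.1, (posUnipotent_eq (F := K) W.hc).le (Subgroup.mem_subgroupOf.1 g.2)⟩
        exact ⟨k, Subtype.ext (Subtype.ext (by simpa using congrArg Subtype.val hk))⟩
      X_le := fun r hp g hg => xSub_le_pos W φ r.2 hp hg
      X_neg := fun v k hn hle => by
        obtain ⟨g, hg, hne⟩ := exists_not_pos W φ v k
        exact hne (not_pos_of_neg W φ _ (Nat.not_le.1 hn) hg
          (hle (x := ⟨g, xSub_le_twist W φ _ hg⟩) hg))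
      H_comm := fun x hx y hy => by
        obtain ⟨c, hc⟩ := (mem_diagonal W.hc).1 (Subgroup.mem_subgroupOf.1 hx)
        obtain ⟨c', hc'⟩ := (mem_diagonal W.hc).1 (Subgroup.mem_subgroupOf.1 hy)
        apply Subtype.ext
        show (x : GL D.Idx K) * y = y * x
        rw [← hc, ← hc', ← map_mul, ← map_mul, ← map_mul, ← map_mul, mul_comm]
      H_conj := fun h hh r x hx => diag_conj_xSub W φ hh h.2 r.2 hx
      H_U := fun h hh u hu => hdiag_conj hh _ hu
      n_H := fun i h hh => monomial_conj_diagonal W.hc (nOrb_mem_monomial W.hc W.hS φ i.1.2) hh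
      UH := eq_bot_iff.2 fun g hg => Subgroup.mem_bot.2 <| Subtype.ext <| by
        obtain ⟨h1, h2⟩ := Subgroup.mem_inf.1 hg
        rw [Subgroup.mem_subgroupOf, posUnipotent_eq W.hc] at h1
        exact pos_inf_diag W.hc h1 (Subgroup.mem_subgroupOf.1 h2)
      n_mem := fun i => by
        have hp := simple_lt W.hc i.1.2
        rw [← Subgroup.subgroupOf_sup (xSub_le_twist W φ _) (xSub_le_twist W φ _),
          Subgroup.mem_subgroupOf]
        show nOrb W.hS φ i.1.1 ∈ _
        rw [nOrb_eq W.hc W.hS φ W.hN i.1.2]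
        refine mul_mem (mul_mem (Subgroup.mem_sup_left ⟨1, isPar_one φ _, rfl⟩)
          (Subgroup.mem_sup_right ⟨-1, ?_, rfl⟩)) (Subgroup.mem_sup_left ⟨1, isPar_one φ _, rfl⟩)
        simp [IsPar, iterate_map_neg, iterate_map_one]
      n_sq := fun i => (nOrb_sq W.hc W.hS φ W.hN i.1.2).1
      split := fun i u hu => by
        have hp := simple_lt W.hc i.1.2
        have hu' : (u : GL D.Idx K)⁻¹ ∈ highU D T K 1 ⊓ fixedSub S W.hS φ := by
          rw [highU_one W.hc (F := K) (TwistSym.htPos W.hO)]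
          exact Subgroup.mem_inf.2 ⟨inv_mem (Subgroup.mem_subgroupOf.1 hu),
            inv_mem (twistGrp_le_fixed W.hc W.hS φ u.2)⟩
        obtain ⟨t₀, ht₀, hrest⟩ := exists_split_one W.hc W.hcomm W.hS W.hO φ le_rfl
          (repNode_at W.hc W.hS W.hO i.2) hu'
        have hx : orbX W.hS φ (D.simple i.1.1) t₀ ∈ xSub W φ hp := ⟨t₀, ht₀, rfl⟩
        refine ⟨(⟨_, xSub_le_twist W φ hp hx⟩ : ↥(twistGrp W.hS φ))⁻¹, Subgroup.inv_mem _ hx,
          ?_⟩
        rw [inv_inv, Subgroup.mem_subgroupOf]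
        show nOrb W.hS φ i.1.1 * ((u : GL D.Idx K) * orbX W.hS φ (D.simple i.1.1) t₀) *
          (nOrb W.hS φ i.1.1)⁻¹ ∈ D.posUnipotent K
        have hgen : ∀ g ∈ repGen W.hS φ T 1 (D.simple i.1.1),
            nOrb W.hS φ i.1.1 * g * (nOrb W.hS φ i.1.1)⁻¹ ∈ D.posUnipotent K := by
          intro g hg
          induction hg using Subgroup.closure_induction with
          | mem x hx =>
            obtain ⟨r, hr, hne, -, t, ht, rfl⟩ := hx
            obtain ⟨hlt, -, e, -, hp', heq⟩ :=
              nOrb_conj W.hc W.hS φ W.hN i.1.2 (mem_repList hr).1 ht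
            rw [heq]
            exact orbX_mem_pos W.hc W.hS φ W.hO hlt (TwistSym.wO_pos W.hT i.2 hr hne) _
          | one => simp
          | mul x y _ _ hx hy =>
            rw [show ∀ n a b : GL D.Idx K, n * (a * b) * n⁻¹ = (n * a * n⁻¹) * (n * b * n⁻¹) from
              fun n a b => by group]
            exact mul_mem hx hy
          | inv x _ hx =>
            rw [show ∀ n a : GL D.Idx K, n * a⁻¹ * n⁻¹ = (n * a * n⁻¹)⁻¹ from fun n a => by group]
            exact inv_mem hx
        have h := hgen _ (inv_mem hrest)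
        rwa [mul_inv_rev, inv_inv, inv_inv] at h
      rank_one := fun i x hx => by
        rcases hrank1 i x hx with ⟨y, hy, h, hh, e⟩ | ⟨y, hy, h, hh, y', hy', e⟩
        · exact Or.inl ⟨⟨y, xSub_le_twist W φ _ hy⟩, hy, ⟨h, hh.2⟩, hh.1, Subtype.ext e⟩
        · exact Or.inr ⟨⟨y, xSub_le_twist W φ _ hy⟩, hy, ⟨h, hh.2⟩, hh.1,
            ⟨y', xSub_le_twist W φ _ hy'⟩, hy', Subtype.ext e⟩
      conj_n := fun v k i h1 h2 => by
        rw [Subgroup.mem_subgroupOf]
        simp only [Subgroup.coe_mul, Subgroup.coe_inv, hnG]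
        exact conj_n_diag W φ v k i h1 h2
      NB := fun v hv => by
        rw [Subgroup.mem_subgroupOf, hnG]
        refine borel_inf_monomial W.hc ?_ (word_monomial W φ v)
        rw [← hnG v, ← Subgroup.mem_subgroupOf]
        exact sup_le (Subgroup.comap_mono (f := (twistGrp W.hS φ).subtype) hUle)
          (Subgroup.comap_mono (f := (twistGrp W.hS φ).subtype) (diagonal_le_borel W.hc)) hv
      gen := by
        rw [eq_top_iff]
        rintro ⟨g, hg⟩ -
        set M := (D.posUnipotent K).subgroupOf (twistGrp W.hS φ) ⊔ Subgroup.closure (Set.range nG)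
        have hle : (twistGrp W.hS φ) ≤ M.map (twistGrp W.hS φ).subtype := by
          refine (Subgroup.closure_le _).2 ?_
          rintro _ ⟨i, hi, r, hr, t, ht, rfl⟩
          obtain ⟨i₀, hi₀, k, -, hk⟩ := TwistSym.node_cover W.hT hi
          have hp₀ := simple_lt W.hc (mem_repNodes hi₀).1
          let j : Node S := ⟨⟨i₀, (mem_repNodes hi₀).1⟩, hi₀⟩
          have hpos : ∀ y ∈ xSub W φ hp₀, y ∈ M.map (twistGrp W.hS φ).subtype := fun y hy =>
            ⟨⟨y, xSub_le_twist W φ _ hy⟩, Subgroup.mem_sup_left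
              (xSub_le_pos W φ hp₀ (half_le_simple W.hc (mem_repNodes hi₀).1) hy), rfl⟩
          have hn : nOrb W.hS φ i₀ ∈ M.map (twistGrp W.hS φ).subtype :=
            ⟨nG j, Subgroup.mem_sup_right (Subgroup.subset_closure ⟨j, rfl⟩), rfl⟩
          have hneg : ∀ y ∈ xSub W φ (neg_lt W.hc hp₀), y ∈ M.map (twistGrp W.hS φ).subtype := by
            intro y hy
            have h1 := nOrb_conj_xSub W φ (mem_repNodes hi₀).1 _ hy
            rw [xSub_congr W φ _ hp₀ (by
              rw [(TwistSym.wO_spec W.hN (mem_repNodes hi₀).1 hp₀).2.2,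
                TwistSym.wO_simple W.hN (mem_repNodes hi₀).1, neg_neg_root W.hc hp₀])] at h1
            have h2 := hpos _ h1
            rwa [Subgroup.mul_mem_cancel_right _ (inv_mem hn), Subgroup.mul_mem_cancel_left _ hn] at h2
          have e : D.neg (D.simple i) = S.imgIter k (D.neg (D.simple i₀)) := by
            obtain ⟨-, h1, h2, -⟩ := TwistSym.imgIter_simple W.hc W.hS (mem_repNodes hi₀).1 k
            rw [h2, ← h1, hk]
          rcases hr with rfl | rfl
          · refine hpos _ ?_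
            have : orbX W.hS φ (D.simple i) t ∈ xSub W φ (simple_lt W.hc hi) := ⟨t, ht, rfl⟩
            rwa [xSub_congr W φ _ (TwistSym.imgIter_lt W.hS hp₀ k) hk.symm, xSub_imgIter W φ hp₀ k] at this
          · refine hneg _ ?_
            have : orbX W.hS φ (D.neg (D.simple i)) t ∈ xSub W φ (neg_lt W.hc (simple_lt W.hc hi)) :=
              ⟨t, ht, rfl⟩
            rwa [xSub_congr W φ _ (TwistSym.imgIter_lt W.hS (neg_lt W.hc hp₀) k) e,
              xSub_imgIter W φ (neg_lt W.hc hp₀) k] at this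
        obtain ⟨m, hm, e⟩ := hle hg
        rwa [show (⟨g, hg⟩ : ↥(twistGrp W.hS φ)) = m from Subtype.ext e.symm] }
  haveI : Fintype (Node S) := Fintype.ofFinite _
  haveI : ∀ i : Node S, Finite (parField S φ (D.simple i.1.1))ˣ := fun i => inferInstance
  let h : ∀ i : Node S, (parField S φ (D.simple i.1.1))ˣ →* ↥(twistGrp W.hS φ) := fun i =>
    (hParam W φ i).codRestrict _ fun s => torus_fixPar_mem W.hc W.hS φ W.hO W.hN W.hT (orbPar_fixed W φ i s)
  let Ψ : (∀ i : Node S, (parField S φ (D.simple i.1.1))ˣ) →* ↥(twistGrp W.hS φ) :=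
    ((torus D T K).comp ((hPar D K).comp (nodeParHom W φ))).codRestrict _ fun s =>
      torus_fixPar_mem W.hc W.hS φ W.hO W.hN W.hT (nodeParHom_fixed W φ s)
  have hΨ : ∀ (i : Node S) (x : (parField S φ (D.simple i.1.1))ˣ), Ψ (Pi.mulSingle i x) = h i x :=
    fun i x => Subtype.ext (congrArg (fun c => torus D T K (hPar D K c)) (nodeParHom_single W φ i x))
  have hker : Nat.card σ.ker ≤ Nat.card Ψ.ker := by
    refine DD.card_ker_le σ hs hc hco (fun i => ?_) hperf h
      (fun i a b e => hParam_injective W φ hker1 i (congrArg Subtype.val e)) (fun i x hx => ?_) Ψ hΨ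
    swap
    · obtain ⟨ι, -, -, hr, hd⟩ := orbit_hom_spec W φ hker1 i
      obtain ⟨hxK, hxH⟩ := Subgroup.mem_inf.1 hx
      change x ∈ (xSub W φ (simple_lt W.hc i.1.2)).subgroupOf (twistGrp W.hS φ) ⊔
        (xSub W φ (neg_lt W.hc (simple_lt W.hc i.1.2))).subgroupOf (twistGrp W.hS φ) at hxK
      rw [← Subgroup.subgroupOf_sup (xSub_le_twist W φ _) (xSub_le_twist W φ _), ← hr] at hxK
      obtain ⟨s, hs'⟩ := hd (Subgroup.mem_inf.2 ⟨hxK, hxH⟩)
      exact ⟨s, Subtype.ext hs'⟩
    obtain ⟨ι, hinj, hle, hr, -⟩ := orbit_hom_spec W φ hker1 i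
    haveI : Fintype (parField S φ (D.simple i.1.1)) := Fintype.ofFinite _
    haveI : CharP (parField S φ (D.simple i.1.1)) p :=
      (RingHom.charP_iff _ (parField S φ (D.simple i.1.1)).subtype.injective p).2 inferInstance
    let ι' : SL(2, parField S φ (D.simple i.1.1)) →* ↥(twistGrp W.hS φ) := ι.codRestrict (twistGrp W.hS φ) fun g => hle ⟨g, rfl⟩
    have h := inf_ker_eq_bot (p := p) hc hco ι' (fun a b e => hinj (congrArg Subtype.val e))
      ({e | σ e ∈ DD.X (DD.a i) ∧ IsPElt p e} ∪ {e | σ e ∈ DD.X (DD.neg (DD.a i)) ∧ IsPElt p e})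
      (fun e he => he.elim (fun h => h.2) (fun h => h.2))
      (fun e he => by
        have hm : (σ e : GL D.Idx K) ∈ ι.range := by
          rw [hr]
          rcases he with ⟨h, -⟩ | ⟨h, -⟩
          · exact Subgroup.mem_sup_left h
          · exact Subgroup.mem_sup_right h
        obtain ⟨g, hg⟩ := hm
        exact ⟨g, Subtype.ext hg⟩)
    rwa [Subgroup.closure_union] at h
  refine hker.trans (Nat.card_le_card_of_injective
    (fun s : Ψ.ker => ⟨nodeParHom W φ s.1, nodeParHom_fixed W φ s.1, ?_⟩) ?_)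
  · exact torus_injective (T := T) W.hc (F := K) ((congrArg Subtype.val s.2).trans (map_one _).symm)
  · intro s t e
    refine Subtype.ext (funext fun i => Units.ext (Subtype.ext ?_))
    have := congrFun (congrArg Subtype.val e) i.1
    simp only [nodeParHom_apply W φ] at this
    exact congrArg Units.val this

end CfsgLib.E6Schur
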